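import Cfsg.Agent.SU3Pres.Model

/-!
The order of `SU₃(q)` from its two cells.
-/

set_option autoImplicit false
set_option linter.unusedSectionVars false
set_option linter.style.haveILetI false

namespace CfsgLib.SU3Pres

open Matrix CfsgLib.Forms CfsgLib.Unitary

variable {F : Type*} [Field F] [Finite F] {q : ℕ}

/-- The unipotent parameters. -/
abbrev UP (F : Type*) [Field F] (q : ℕ) : Type _ := {z : F × F // Vld q z.1 z.2}

/-- The elements fixed by the involution of the field. -/
abbrev FixQ (F : Type*) [Field F] (q : ℕ) : Type _ := {x : F // x ^ q = x}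

variable (hF : Nat.card F = q ^ 2)

include hF

theorem card_FixQ : Nat.card (FixQ F q) = q := by
  classical
  have hq := two_le_q hF
  let K := (powMonoidHom (q - 1) : Fˣ →* Fˣ).ker
  have hK : Nat.card K = q - 1 := by
    rw [IsCyclic.card_powMonoidHom_ker, card_units_eq hF, Nat.gcd_mul_left_left]
  have hmem : ∀ x : F, ∀ hx : x ≠ 0, x ^ q = x ↔ Units.mk0 x hx ∈ K := fun x hx => by
    rw [MonoidHom.mem_ker, powMonoidHom_apply, Units.ext_iff, Units.val_pow_eq_pow_val, Units.val_mk0,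
      Units.val_one]
    conv_lhs => rw [show q = q - 1 + 1 by omega, pow_succ]
    exact mul_eq_right₀ hx
  let e : FixQ F q ≃ Option K :=
    { toFun := fun x => if hx : x.1 = 0 then none else some ⟨Units.mk0 x.1 hx, (hmem _ hx).1 x.2⟩
      invFun := fun o => match o with
        | none => ⟨0, qzero hF⟩
        | some k => ⟨(k.1 : F), (hmem _ k.1.ne_zero).2 (by
            have : Units.mk0 (k.1 : F) k.1.ne_zero = k.1 := Units.ext rfl
            rw [this]; exact k.2)⟩
      left_inv := fun x => by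
        obtain ⟨x, hx'⟩ := x
        by_cases hx : x = 0
        · subst hx; simp
        · simp [hx]
      right_inv := fun o => by
        rcases o with - | ⟨k, hk⟩
        · simp
        · simp [k.ne_zero] }
  rw [Nat.card_congr e, Finite.card_option, hK]
  omega

theorem card_UP : Nat.card (UP F q) = q ^ 3 := by
  obtain ⟨c, hc0, hc⟩ := exists_skew hF
  obtain ⟨r, hr⟩ := exists_trace_eq hF (μ := (-1 : F)) (by rw [qneg hF, one_pow])
  have hcq : c ^ q = -c := by linear_combination hc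
  have hfix : ∀ a : F, (a * a ^ q) ^ q = a * a ^ q := fun a => by rw [mul_pow, pow_q_q hF, mul_comm]
  let e : UP F q ≃ F × FixQ F q :=
    { toFun := fun z => (z.1.1, ⟨(z.1.2 - r * (z.1.1 * z.1.1 ^ q)) / c, by
        have h := z.2
        unfold Vld at h
        rw [div_pow, qsub hF, mul_pow, hfix, hcq, div_neg, ← neg_div]
        congr 1
        linear_combination -h + (z.1.1 * z.1.1 ^ q) * hr⟩)
      invFun := fun y => ⟨(y.1, c * y.2.1 + r * (y.1 * y.1 ^ q)), by
        unfold Vld
        rw [add_pow_q hF, mul_pow, mul_pow, hcq, y.2.2, hfix]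
        linear_combination (y.1 * y.1 ^ q) * hr⟩
      left_inv := fun z => Subtype.ext (Prod.ext rfl (by
        show c * ((z.1.2 - r * (z.1.1 * z.1.1 ^ q)) / c) + r * (z.1.1 * z.1.1 ^ q) = z.1.2
        rw [mul_div_cancel₀ _ hc0, sub_add_cancel]))
      right_inv := fun y => Prod.ext rfl (Subtype.ext (by
        show (c * y.2.1 + r * (y.1 * y.1 ^ q) - r * (y.1 * y.1 ^ q)) / c = y.2.1
        rw [add_sub_cancel_right, mul_div_cancel_left₀ _ hc0])) }
  rw [Nat.card_congr e, Nat.card_prod, hF, card_FixQ hF]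
  ring

/-- The unipotent element of a parameter. -/
def uP (z : UP F q) : HU F q := uel hF z.1.1 z.1.2 z.2

/-- The two cells. -/
def cellFun : UP F q × Fˣ × Option (UP F q) → HU F q := fun x =>
  match x.2.2 with
  | none => uP hF x.1 * tel hF x.2.1
  | some z => uP hF x.1 * tel hF x.2.1 * wel hF * uP hF z

theorem hMat_cell_none (z : UP F q) (k : Fˣ) (i : Fin 3) :
    hMat (uP hF z * tel hF k) 2 i = if i = 2 then ((k : F) ^ q)⁻¹ else 0 := by
  rw [hMat_mul, uP, hMat_uel, hMat_tel]
  fin_cases i <;> simp [uMat, tMat, Matrix.mul_apply, Fin.sum_univ_three]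

theorem hMat_cell_some (z z' : UP F q) (k : Fˣ) :
    hMat (uP hF z * tel hF k * wel hF * uP hF z') 2 0 = ((k : F) ^ q)⁻¹ ∧
    hMat (uP hF z * tel hF k * wel hF * uP hF z') 2 1 = ((k : F) ^ q)⁻¹ * z'.1.1 ∧
    hMat (uP hF z * tel hF k * wel hF * uP hF z') 2 2 = ((k : F) ^ q)⁻¹ * z'.1.2 := by
  rw [hMat_mul, hMat_mul, hMat_mul, uP, uP, hMat_uel, hMat_uel, hMat_tel, hMat_wel]
  refine ⟨?_, ?_, ?_⟩ <;> simp [uMat, tMat, wMat, Matrix.mul_apply, Fin.sum_univ_three]

theorem borel_inj {z z' : UP F q} {k k' : Fˣ} (e : uP hF z * tel hF k = uP hF z' * tel hF k') :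
    z = z' ∧ k = k' := by
  have e' := congrArg hMat e
  rw [hMat_mul, hMat_mul, uP, uP, hMat_uel, hMat_uel, hMat_tel, hMat_tel] at e'
  have h00 := congrFun (congrFun e' 0) 0
  simp [uMat, tMat, Matrix.mul_apply, Fin.sum_univ_three] at h00
  have hk : k = k' := Units.ext h00
  subst hk
  refine ⟨?_, rfl⟩
  have h := mul_right_cancel e
  obtain ⟨h1, h2⟩ := uel_injective hF h
  exact Subtype.ext (Prod.ext h1 h2)

theorem cellFun_injective : Function.Injective (cellFun (q := q) hF) := by
  rintro ⟨z, k, o⟩ ⟨z', k', o'⟩ e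
  have hne : ∀ l : Fˣ, ((l : F) ^ q)⁻¹ ≠ 0 := fun l => inv_ne_zero (pow_ne_zero q l.ne_zero)
  rcases o with - | w <;> rcases o' with - | w' <;> simp only [cellFun] at e
  · obtain ⟨rfl, rfl⟩ := borel_inj hF e; rfl
  · have := (hMat_cell_some hF z' w' k').1
    rw [← e, hMat_cell_none, if_neg (by decide)] at this
    exact absurd this.symm (hne k')
  · have := (hMat_cell_some hF z w k).1
    rw [e, hMat_cell_none, if_neg (by decide)] at this
    exact absurd this.symm (hne k)
  · obtain ⟨a0, a1, a2⟩ := hMat_cell_some hF z w k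
    obtain ⟨b0, b1, b2⟩ := hMat_cell_some hF z' w' k'
    rw [e] at a0 a1 a2
    rw [b0] at a0
    rw [b1, a0] at a1
    rw [b2, a0] at a2
    obtain rfl : w = w' := Subtype.ext (Prod.ext (mul_left_cancel₀ (hne k) a1).symm (mul_left_cancel₀ (hne k) a2).symm)
    obtain ⟨rfl, rfl⟩ := borel_inj hF (mul_right_cancel (mul_right_cancel e))
    rfl

theorem card_dom : Nat.card (UP F q × Fˣ × Option (UP F q)) = q ^ 3 * ((q ^ 2 - 1) * (q ^ 3 + 1)) := by
  rw [Nat.card_prod, Nat.card_prod, Finite.card_option, card_UP hF, Nat.card_units, hF]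

/-- The group is the special unitary group. -/
theorem nonempty_equiv : Nonempty (HU F q ≃* Cfsg.SU 3 F q) := by
  classical
  obtain ⟨P, hP, hform⟩ := exists_hyperbolic_two hF
  let Q : Matrix (Fin 3) (Fin 3) F := !![P 0 0, 0, P 0 1; P 1 0, 0, P 1 1; 0, 1, 0]
  have hQd : IsUnit Q.det := by
    have e : Q.det = -P.det := by simp [Q, Matrix.det_fin_three, Matrix.det_fin_two]; ring
    rw [e]; exact hP.neg
  let U := Matrix.GeneralLinearGroup.mk'' Q hQd
  have hQ : ∀ x y, Cfsg.hermForm 3 F q (Q *ᵥ x) (Q *ᵥ y) = fJ q x y := fun x y => by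
    have h := hform ![x 0, x 2] ![y 0, y 2]
    simp only [Cfsg.hermForm, Fin.sum_univ_two, Matrix.mulVec, dotProduct, Matrix.cons_val_zero,
      Matrix.cons_val_one] at h
    simp only [Cfsg.hermForm, fJ, Fin.sum_univ_three, Matrix.mulVec, dotProduct, Q, Matrix.of_apply,
      Matrix.cons_val_zero, Matrix.cons_val_one, Matrix.cons_val, zero_mul, add_zero, zero_add, one_mul]
    linear_combination h
  have hU : ∀ x, U.1 *ᵥ ((U⁻¹).1 *ᵥ x) = x := fun x => by
    rw [Matrix.mulVec_mulVec, Units.mul_inv, Matrix.one_mulVec]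
  have hU' : ∀ x, (U⁻¹).1 *ᵥ (U.1 *ᵥ x) = x := fun x => by
    rw [Matrix.mulVec_mulVec, Units.inv_mul, Matrix.one_mulVec]
  refine ⟨
    { toFun := fun A => ⟨⟨U.1 * hMat A * (U⁻¹).1, by
          rw [Matrix.det_mul, Matrix.det_mul, mul_right_comm, ← Matrix.det_mul, Units.mul_inv, Matrix.det_one,
            one_mul]
          exact A.1.2⟩, fun x y => by
          show Cfsg.hermForm 3 F q ((U.1 * hMat A * (U⁻¹).1) *ᵥ x) ((U.1 * hMat A * (U⁻¹).1) *ᵥ y) =
            Cfsg.hermForm 3 F q x y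
          rw [← Matrix.mulVec_mulVec, ← Matrix.mulVec_mulVec, ← Matrix.mulVec_mulVec, ← Matrix.mulVec_mulVec]
          refine (hQ _ _).trans ((A.2 _ _).trans ?_)
          rw [← hQ]
          show Cfsg.hermForm 3 F q (U.1 *ᵥ _) (U.1 *ᵥ _) = _
          rw [hU, hU]⟩
      invFun := fun B => mk ((U⁻¹).1 * suMat B * U.1) (by
          rw [Matrix.det_mul, Matrix.det_mul, mul_right_comm, ← Matrix.det_mul, Units.inv_mul, Matrix.det_one,
            one_mul]
          exact B.1.2) (fun x y => by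
          rw [← Matrix.mulVec_mulVec, ← Matrix.mulVec_mulVec, ← Matrix.mulVec_mulVec, ← Matrix.mulVec_mulVec,
            ← hQ]
          show Cfsg.hermForm 3 F q (U.1 *ᵥ _) (U.1 *ᵥ _) = _
          rw [hU, hU, su_preserves]
          exact hQ x y)
      left_inv := fun A => hMat_inj (by
        show (U⁻¹).1 * (U.1 * hMat A * (U⁻¹).1) * U.1 = hMat A
        simp [mul_assoc])
      right_inv := fun B => Subtype.ext (Subtype.ext (by
        show U.1 * ((U⁻¹).1 * suMat B * U.1) * (U⁻¹).1 = suMat B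
        simp [mul_assoc]))
      map_mul' := fun A B => Subtype.ext (Subtype.ext (by
        show U.1 * (hMat A * hMat B) * (U⁻¹).1 = U.1 * hMat A * (U⁻¹).1 * (U.1 * hMat B * (U⁻¹).1)
        simp [mul_assoc])) }⟩

theorem card_HU : Nat.card (HU F q) = q ^ 3 * ((q ^ 2 - 1) * (q ^ 3 + 1)) := by
  obtain ⟨e⟩ := nonempty_equiv hF
  have h := card_SU_mul hF (n := 3) (by norm_num)
  rw [card_GU hF] at h
  rw [Nat.card_congr e.toEquiv]
  simp only [Finset.prod_range_succ, Finset.prod_range_zero, one_mul] at h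
  norm_num [-Nat.card_eq_fintype_card] at h
  have hq := two_le_q hF
  apply Nat.eq_of_mul_eq_mul_left (show 0 < q + 1 by omega)
  rw [h]
  ring

theorem cellFun_bijective : Function.Bijective (cellFun (q := q) hF) :=
  (Nat.bijective_iff_injective_and_card _).2 ⟨cellFun_injective hF, by rw [card_dom hF, card_HU hF]⟩

theorem closure_eq_top {K : Subgroup (HU F q)} (hu : ∀ (a b : F) (h : Vld q a b), uel hF a b h ∈ K)
    (ht : ∀ k, tel hF k ∈ K) (hw : wel hF ∈ K) : K = ⊤ := by
  refine (Subgroup.eq_top_iff' K).2 fun g => ?_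
  obtain ⟨⟨z, k, o⟩, rfl⟩ := (cellFun_bijective hF).2 g
  rcases o with - | z'
  · exact mul_mem (hu _ _ _) (ht k)
  · exact mul_mem (mul_mem (mul_mem (hu _ _ _) (ht k)) hw) (hu _ _ _)

end CfsgLib.SU3Pres
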