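import Cfsg.Agent.Unitary.Two
import Cfsg.Agent.Unitary.Special
import Mathlib.LinearAlgebra.Matrix.GeneralLinearGroup.Basic

/-!
`SU₃(q)` in a basis with antidiagonal Gram matrix.
-/

set_option autoImplicit false
set_option linter.unusedSectionVars false
set_option linter.style.haveILetI false

namespace CfsgLib.SU3Pres

open Matrix CfsgLib.Forms CfsgLib.Unitary

variable {F : Type*} [Field F] [Finite F] {q : ℕ}

/-- The hermitian form with antidiagonal matrix. -/
def fJ (q : ℕ) (x y : Fin 3 → F) : F := x 0 * y 2 ^ q + x 1 * y 1 ^ q + x 2 * y 0 ^ q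

/-- The group of the form. -/
def HU (F : Type*) [Field F] [Finite F] (q : ℕ) : Subgroup (Matrix.SpecialLinearGroup (Fin 3) F) where
  carrier := {A | ∀ x y, fJ q (A.1 *ᵥ x) (A.1 *ᵥ y) = fJ q x y}
  one_mem' := fun x y => by simp
  mul_mem' := fun {A B} hA hB x y => by
    rw [Matrix.SpecialLinearGroup.coe_mul, ← Matrix.mulVec_mulVec, ← Matrix.mulVec_mulVec, hA, hB]
  inv_mem' := fun {A} hA x y => by
    conv_rhs => rw [← Matrix.one_mulVec x, ← Matrix.one_mulVec y,
      show (1 : Matrix (Fin 3) (Fin 3) F) = A.1 * (A⁻¹).1 by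
        rw [← Matrix.SpecialLinearGroup.coe_mul, mul_inv_cancel]; rfl,
      ← Matrix.mulVec_mulVec, ← Matrix.mulVec_mulVec, hA]

/-- The matrix of an element. -/
def hMat (g : HU F q) : Matrix (Fin 3) (Fin 3) F := g.1.1

theorem hMat_mul (g h : HU F q) : hMat (g * h) = hMat g * hMat h := rfl

theorem hMat_one : hMat (1 : HU F q) = 1 := rfl

theorem hMat_inj {g h : HU F q} (e : hMat g = hMat h) : g = h := Subtype.ext (Subtype.ext e)

/-- A matrix of the group. -/
def mk (A : Matrix (Fin 3) (Fin 3) F) (hd : A.det = 1)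
    (hp : ∀ x y, fJ q (A *ᵥ x) (A *ᵥ y) = fJ q x y) : HU F q := ⟨⟨A, hd⟩, hp⟩

theorem hMat_mk (A : Matrix (Fin 3) (Fin 3) F) (hd : A.det = 1)
    (hp : ∀ x y, fJ q (A *ᵥ x) (A *ᵥ y) = fJ q x y) : hMat (mk A hd hp) = A := rfl

/-- A valid pair of parameters of a unipotent element. -/
def Vld (q : ℕ) (a b : F) : Prop := b + b ^ q + a * a ^ q = 0

/-- The matrix of a unipotent element. -/
def uMat (q : ℕ) (a b : F) : Matrix (Fin 3) (Fin 3) F := !![1, a, b; 0, 1, -(a ^ q); 0, 0, 1]

/-- The matrix of a torus element. -/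
def tMat (q : ℕ) (k : F) : Matrix (Fin 3) (Fin 3) F := !![k, 0, 0; 0, k ^ q / k, 0; 0, 0, (k ^ q)⁻¹]

/-- The matrix of the Weyl element. -/
def wMat : Matrix (Fin 3) (Fin 3) F := !![0, 0, 1; 0, -1, 0; 1, 0, 0]

/-- The character of the torus on the unipotent group modulo its centre. -/
def lam (q : ℕ) (k : F) : F := k * k / k ^ q

theorem lam_mul (k l : F) : lam q (k * l) = lam q k * lam q l := by
  simp only [lam, mul_pow]; field_simp

theorem lam_one : lam q (1 : F) = 1 := by simp [lam]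

theorem lam_pow (k : F) (i : ℕ) : lam q (k ^ i) = lam q k ^ i := by
  induction i with
  | zero => simp [lam_one]
  | succ i ih => rw [pow_succ, lam_mul, ih, pow_succ]

variable (hF : Nat.card F = q ^ 2)

include hF

theorem qz : q ≠ 0 := by have := two_le_q hF; omega

theorem qneg (a : F) : (-a) ^ q = -(a ^ q) := by rw [← frobQ_apply hF, map_neg, frobQ_apply]

theorem qzero : (0 : F) ^ q = 0 := zero_pow (qz hF)

theorem qsub (a b : F) : (a - b) ^ q = a ^ q - b ^ q := by
  rw [← frobQ_apply hF, map_sub, frobQ_apply, frobQ_apply]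

theorem vld_zero : Vld q (0 : F) 0 := by simp [Vld, qzero hF]

theorem vld_mul {a b c d : F} (h : Vld q a b) (h' : Vld q c d) : Vld q (a + c) (b + d - a * c ^ q) := by
  unfold Vld at h h' ⊢
  rw [qsub hF, add_pow_q hF, add_pow_q hF, mul_pow, pow_q_q hF]
  linear_combination h + h'

theorem uMat_preserves {a b : F} (h : Vld q a b) (x y : Fin 3 → F) :
    fJ q (uMat q a b *ᵥ x) (uMat q a b *ᵥ y) = fJ q x y := by
  simp only [fJ, uMat, Matrix.mulVec, dotProduct, Fin.sum_univ_three, Matrix.of_apply, Matrix.cons_val_zero,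
    Matrix.cons_val_one, Matrix.cons_val, one_mul, zero_mul, zero_add, add_zero, add_pow_q hF, mul_pow,
    qneg hF, pow_q_q hF]
  unfold Vld at h
  linear_combination (x 2 * y 2 ^ q) * h

theorem tMat_preserves {k : F} (hk : k ≠ 0) (x y : Fin 3 → F) :
    fJ q (tMat q k *ᵥ x) (tMat q k *ᵥ y) = fJ q x y := by
  simp only [fJ, tMat, Matrix.mulVec, dotProduct, Fin.sum_univ_three, Matrix.of_apply, Matrix.cons_val_zero,
    Matrix.cons_val_one, Matrix.cons_val, zero_mul, zero_add, add_zero, mul_pow, div_pow, inv_pow,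
    pow_q_q hF]
  have hkq : k ^ q ≠ 0 := pow_ne_zero q hk
  field_simp

theorem wMat_preserves (x y : Fin 3 → F) :
    fJ q ((wMat : Matrix (Fin 3) (Fin 3) F) *ᵥ x) (wMat *ᵥ y) = fJ q x y := by
  simp only [fJ, wMat, Matrix.mulVec, dotProduct, Fin.sum_univ_three, Matrix.of_apply, Matrix.cons_val_zero,
    Matrix.cons_val_one, Matrix.cons_val, zero_mul, zero_add, add_zero, one_mul, neg_one_mul, qneg hF]
  ring

/-- The unipotent elements. -/
def uel (a b : F) (h : Vld q a b) : HU F q :=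
  mk (uMat q a b) (by simp [uMat, Matrix.det_fin_three]) (uMat_preserves hF h)

/-- The torus. -/
def tel : Fˣ →* HU F q where
  toFun k := mk (tMat q (k : F)) (by
    have hkq : (k : F) ^ q ≠ 0 := pow_ne_zero q k.ne_zero
    have hk := k.ne_zero
    simp [tMat, Matrix.det_fin_three]; field_simp) (tMat_preserves hF k.ne_zero)
  map_one' := hMat_inj (by
    rw [hMat_mk, hMat_one]
    ext i j; fin_cases i <;> fin_cases j <;> simp [tMat])
  map_mul' k l := hMat_inj (by
    rw [hMat_mul, hMat_mk, hMat_mk, hMat_mk]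
    ext i j; fin_cases i <;> fin_cases j <;>
      simp [tMat, Matrix.mul_apply, Fin.sum_univ_three, mul_pow, mul_comm] <;> field_simp)

/-- The Weyl element. -/
def wel : HU F q := mk wMat (by simp [wMat, Matrix.det_fin_three]) (wMat_preserves hF)

theorem hMat_uel {a b : F} (h : Vld q a b) : hMat (uel hF a b h) = uMat q a b := rfl

theorem hMat_tel (k : Fˣ) : hMat (tel hF k) = tMat q (k : F) := rfl

theorem hMat_wel : hMat (wel hF) = wMat := rfl

theorem uel_congr {a b a' b' : F} (h : Vld q a b) (h' : Vld q a' b') (ea : a = a') (eb : b = b') :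
    uel hF a b h = uel hF a' b' h' := by subst ea eb; rfl

theorem uel_mul {a b c d : F} (h : Vld q a b) (h' : Vld q c d) :
    uel hF a b h * uel hF c d h' = uel hF (a + c) (b + d - a * c ^ q) (vld_mul hF h h') := by
  refine hMat_inj ?_
  rw [hMat_mul, hMat_uel, hMat_uel, hMat_uel]
  ext i j; fin_cases i <;> fin_cases j <;>
    simp [uMat, Matrix.mul_apply, Fin.sum_univ_three, add_pow_q hF] <;> ring

theorem uel_zero : uel hF 0 0 (vld_zero hF) = 1 := by
  refine hMat_inj ?_
  rw [hMat_uel, hMat_one]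
  ext i j; fin_cases i <;> fin_cases j <;> simp [uMat, qzero hF]

theorem uel_injective {a b a' b' : F} {h : Vld q a b} {h' : Vld q a' b'}
    (e : uel hF a b h = uel hF a' b' h') : a = a' ∧ b = b' := by
  have e' := congrArg hMat e
  rw [hMat_uel, hMat_uel] at e'
  exact ⟨by simpa [uMat] using congrFun (congrFun e' 0) 1, by simpa [uMat] using congrFun (congrFun e' 0) 2⟩

theorem vld_conj {k a b : F} (hk : k ≠ 0) (h : Vld q a b) : Vld q (lam q k * a) (k * k ^ q * b) := by
  unfold Vld at h ⊢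
  have hkq : k ^ q ≠ 0 := pow_ne_zero q hk
  have e : lam q k * lam q k ^ q = k * k ^ q := by
    simp only [lam, div_pow, mul_pow, pow_q_q hF]; field_simp
  rw [mul_pow (lam q k), mul_pow, mul_pow, pow_q_q hF]
  linear_combination (k * k ^ q) * h + (a * a ^ q) * e

theorem tel_conj (k : Fˣ) {a b : F} (h : Vld q a b) :
    tel hF k * uel hF a b h * (tel hF k)⁻¹ =
      uel hF (lam q (k : F) * a) ((k : F) * (k : F) ^ q * b) (vld_conj hF k.ne_zero h) := by
  rw [mul_inv_eq_iff_eq_mul]
  refine hMat_inj ?_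
  have hk := k.ne_zero
  have hkq : (k : F) ^ q ≠ 0 := pow_ne_zero q hk
  rw [hMat_mul, hMat_mul, hMat_uel, hMat_uel, hMat_tel]
  ext i j; fin_cases i <;> fin_cases j <;>
    simp [uMat, tMat, lam, Matrix.mul_apply, Fin.sum_univ_three, mul_pow, div_pow, pow_q_q hF] <;>
    field_simp

theorem wel_sq : wel hF * wel hF = 1 := by
  refine hMat_inj ?_
  rw [hMat_mul, hMat_wel, hMat_one]
  ext i j; fin_cases i <;> fin_cases j <;> simp [wMat, Matrix.mul_apply, Fin.sum_univ_three]

theorem wel_conj (k : Fˣ) : wel hF * tel hF k * (wel hF)⁻¹ = tel hF ((k ^ q)⁻¹) := by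
  rw [mul_inv_eq_iff_eq_mul]
  refine hMat_inj ?_
  have hk := k.ne_zero
  have hkq : (k : F) ^ q ≠ 0 := pow_ne_zero q hk
  rw [hMat_mul, hMat_mul, hMat_wel, hMat_tel, hMat_tel]
  ext i j; fin_cases i <;> fin_cases j <;>
    simp [wMat, tMat, Matrix.mul_apply, Fin.sum_univ_three, inv_pow, pow_q_q hF] <;> ring

theorem vld_b_ne_zero {a b : F} (h : Vld q a b) (ha : a ≠ 0) : b ≠ 0 := by
  rintro rfl
  simp [Vld, qzero hF, ha] at h

theorem vld_left {a b : F} (h : Vld q a b) (hb : b ≠ 0) : Vld q (-a / b ^ q) b⁻¹ := by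
  unfold Vld at h ⊢
  have hbq : b ^ q ≠ 0 := pow_ne_zero q hb
  rw [div_pow, qneg hF, pow_q_q hF, inv_pow]
  field_simp
  linear_combination h

theorem vld_right {a b : F} (h : Vld q a b) (hb : b ≠ 0) : Vld q (-a / b) b⁻¹ := by
  unfold Vld at h ⊢
  have hbq : b ^ q ≠ 0 := pow_ne_zero q hb
  rw [div_pow, qneg hF, inv_pow]
  field_simp
  linear_combination h

/-- The cell of the conjugate of a unipotent element by the Weyl element. -/
theorem wel_uel_wel {a b : F} (h : Vld q a b) (hb : b ≠ 0) :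
    wel hF * uel hF a b h * wel hF = uel hF (-a / b ^ q) b⁻¹ (vld_left hF h hb) *
      tel hF (Units.mk0 (b ^ q)⁻¹ (inv_ne_zero (pow_ne_zero q hb))) * wel hF *
        uel hF (-a / b) b⁻¹ (vld_right hF h hb) := by
  refine hMat_inj ?_
  have hbq : b ^ q ≠ 0 := pow_ne_zero q hb
  have h' : b + b ^ q + a * a ^ q = 0 := h
  rw [hMat_mul, hMat_mul, hMat_mul, hMat_mul, hMat_mul, hMat_wel, hMat_uel, hMat_uel, hMat_uel, hMat_tel,
    Units.val_mk0]
  ext i j; fin_cases i <;> fin_cases j <;>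
    simp [uMat, tMat, wMat, Matrix.mul_apply, Fin.sum_univ_three, div_pow, qneg hF, pow_q_q hF, inv_pow] <;>
    field_simp <;> first | ring1 | linear_combination h' | linear_combination -h'

end CfsgLib.SU3Pres
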