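import Cfsg.Agent.SL2Pres.Param
import Mathlib.RingTheory.AdjoinRoot
import Mathlib.GroupTheory.QuotientGroup.Basic

/-!
The bound on the Borel subgroup from relations in two generators.
-/

set_option autoImplicit false
set_option linter.unusedSectionVars false
set_option linter.style.haveILetI false

namespace CfsgLib.SU3Pres

open CfsgLib.SL2Pres Polynomial
open Multiplicative (ofAdd)

variable {G : Type*} [Group G]

/-- The commutator serving as central generator. -/
def zc (u t : G) : G := u * cj u t 1 * u⁻¹ * (cj u t 1)⁻¹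

/-- The candidate for the centre. -/
def Zg (u t : G) : Subgroup G := Subgroup.closure (Set.range (cj (zc u t) t))

/-- The conjugates of `u`. -/
def Ag (u t : G) : Subgroup G := Subgroup.closure (Set.range (cj u t))

theorem map_cj {H : Type*} [Group H] (φ : G →* H) (u t : G) (i : ℤ) :
    φ (cj u t i) = cj (φ u) (φ t) i := by
  simp [cj]

theorem map_zc {H : Type*} [Group H] (φ : G →* H) (u t : G) : φ (zc u t) = zc (φ u) (φ t) := by
  simp [zc, map_cj]

theorem shift_mem {u t : G} (i : ℤ) {a : G} (ha : a ∈ Subgroup.closure (Set.range (cj u t))) :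
    t ^ i * a * (t ^ i)⁻¹ ∈ Subgroup.closure (Set.range (cj u t)) := by
  have : (Subgroup.closure (Set.range (cj u t))).map (MulAut.conj (t ^ i)).toMonoidHom ≤
      Subgroup.closure (Set.range (cj u t)) := by
    rw [MonoidHom.map_closure, Subgroup.closure_le]
    rintro _ ⟨_, ⟨j, rfl⟩, rfl⟩
    exact Subgroup.subset_closure ⟨i + j, cj_shift u t i j⟩
  exact this ⟨a, ha, rfl⟩

theorem cj_periodic {u t : G} {N : ℕ} (hN : 0 < N) (hper : t ^ N = 1) (i : ℤ) :
    ∃ k : ℕ, cj u t i = cj u t k := by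
  refine ⟨(i % (N : ℤ)).toNat, ?_⟩
  rw [Int.toNat_of_nonneg (Int.emod_nonneg _ (by omega))]
  have : t ^ i = t ^ (i % (N : ℤ)) := zpow_eq_zpow_emod' i hper
  rw [cj, cj, this]

/-- A subgroup stable under `t` containing `u` contains all conjugates. -/
theorem cj_mem_of_stable {u t : G} {N : ℕ} (hN : 0 < N) (hper : t ^ N = 1) {A : Subgroup G}
    (hu : u ∈ A) (hst : ∀ a ∈ A, t * a * t⁻¹ ∈ A) (i : ℤ) : cj u t i ∈ A := by
  obtain ⟨k, hk⟩ := cj_periodic (u := u) hN hper i
  rw [hk, cj_natCast]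
  clear hk
  induction k with
  | zero => simpa using hu
  | succ k ih =>
    have := hst _ ih
    rw [pow_succ']
    convert this using 1
    group

theorem cj_u_mem (u t : G) (i : ℤ) : cj u t i ∈ Ag u t := Subgroup.subset_closure ⟨i, rfl⟩

theorem u_mem (u t : G) : u ∈ Ag u t := by simpa [cj_zero] using cj_u_mem u t 0

theorem Zg_le (u t : G) : Zg u t ≤ Ag u t := by
  rw [Zg, Subgroup.closure_le]
  rintro _ ⟨i, rfl⟩
  refine shift_mem i ?_
  exact mul_mem (mul_mem (mul_mem (u_mem u t) (cj_u_mem u t 1)) (inv_mem (u_mem u t))) (inv_mem (cj_u_mem u t 1))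

theorem commute_shifts {u t : G} (huz : ∀ i, Commute (cj u t i) (zc u t)) (i k : ℤ) :
    Commute (cj u t i) (cj (zc u t) t k) := by
  have h := (huz (i - k)).map (MulAut.conj (t ^ k)).toMonoidHom
  rw [show (MulAut.conj (t ^ k)).toMonoidHom (cj u t (i - k)) = cj u t i by
    show t ^ k * cj u t (i - k) * (t ^ k)⁻¹ = _
    rw [← cj_shift, add_sub_cancel]] at h
  exact h

/-- `u` and `t` normalise the centre. -/
theorem mem_normalizer {u t : G} (huz : ∀ i, Commute (cj u t i) (zc u t)) :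
    u ∈ (Subgroup.normalizer (Zg u t : Set G)) ∧ t ∈ (Subgroup.normalizer (Zg u t : Set G)) := by
  have hu : ∀ x ∈ Zg u t, u * x = x * u := fun x hx => by
    induction hx using Subgroup.closure_induction with
    | mem x hx =>
      obtain ⟨k, rfl⟩ := hx
      have := commute_shifts huz 0 k
      rw [cj_zero] at this
      exact this.eq
    | one => simp
    | mul a b _ _ ha hb => rw [← mul_assoc, ha, mul_assoc, hb, mul_assoc]
    | inv a _ ha => exact (Commute.inv_right ha).eq
  refine ⟨Subgroup.mem_normalizer_iff.2 fun x => ⟨fun hx => ?_, fun hx => ?_⟩,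
    Subgroup.mem_normalizer_iff.2 fun x => ⟨fun hx => ?_, fun hx => ?_⟩⟩
  · rw [hu x hx, mul_inv_cancel_right]; exact hx
  · have e := hu _ hx
    have : u * x * u⁻¹ = x := by
      have h1 : u * (u * x * u⁻¹) = u * x := by rw [e, inv_mul_cancel_right]
      exact mul_left_cancel h1
    rwa [this] at hx
  · simpa [Zg] using shift_mem (u := zc u t) (t := t) 1 hx
  · have := shift_mem (u := zc u t) (t := t) (-1) hx
    simpa [Zg, mul_assoc] using this

/-- The quotient map killing the centre. -/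
theorem exists_quot {u t : G} (huz : ∀ i, Commute (cj u t i) (zc u t)) :
    ∃ (H : Subgroup G) (hu : u ∈ H) (ht : t ∈ H) (_ : ((Zg u t).subgroupOf H).Normal),
      Zg u t ≤ H := by
  exact ⟨(Subgroup.normalizer (Zg u t : Set G)), (mem_normalizer huz).1, (mem_normalizer huz).2,
    Subgroup.normal_in_normalizer, Subgroup.le_normalizer⟩

section field

variable {p : ℕ} [Fact p.Prime] {F : Type*} [Field F] [Algebra (ZMod p) F]

theorem wd_comp_one (u t : G) {x : G} (Φ : (ZMod p)[X] → G)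
    (hΦ : ∀ b f, Φ (f.comp (X ^ b)) = wd u (t ^ b) f) (f : (ZMod p)[X]) (h : wd u t f = x) : Φ f = x := by
  have := hΦ 1 f
  rwa [pow_one, comp_X, pow_one, h] at this

/-- The centre is an image of the field generated by `g`. -/
theorem exists_iota_Z [Finite F] {u t : G} {g : F} {q : ℕ} (hg : g ^ q = g) (hfix : Nat.card {x : F // x ^ q = x} = q)
    (hfrob : ∀ a b : F, (a + b) ^ q = a ^ q + b ^ q) (hcast : ∀ c : ZMod p, algebraMap (ZMod p) F c ^ q = algebraMap (ZMod p) F c)
    {N : ℕ} (hN : 0 < N) (hper : t ^ N = 1) (hzp : zc u t ^ p = 1)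
    (hzc : ∀ i j, Commute (cj (zc u t) t i) (cj (zc u t) t j))
    (hzm : wd (zc u t) t (minpoly (ZMod p) g) = 1) :
    (∀ b : ℕ, g ^ b = 1 → t ^ b * zc u t * (t ^ b)⁻¹ = zc u t) ∧
      ∃ (K : Type) (_ : Field K) (_ : Finite K) (ι : Multiplicative K →* G),
        Nat.card K ≤ q ∧ Zg u t ≤ ι.range := by
  classical
  set f := minpoly (ZMod p) g
  have hint : IsIntegral (ZMod p) g := IsIntegral.of_finite _ _
  haveI : Fact (Irreducible f) := ⟨minpoly.irreducible hint⟩
  let φ : AdjoinRoot f →ₐ[ZMod p] F := AdjoinRoot.liftAlgHom f (Algebra.ofId (ZMod p) F) g (minpoly.aeval (ZMod p) g)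
  have hφroot : φ (AdjoinRoot.root f) = g := AdjoinRoot.lift_root (minpoly.aeval (ZMod p) g)
  have hφinj : Function.Injective φ := φ.toRingHom.injective
  have hrange : ∀ y : AdjoinRoot f, φ y ^ q = φ y := by
    intro y
    induction y using AdjoinRoot.induction_on with
    | ih P =>
      show φ (AdjoinRoot.mk f P) ^ q = φ (AdjoinRoot.mk f P)
      rw [show φ (AdjoinRoot.mk f P) = aeval g P by rw [← AdjoinRoot.aeval_eq, ← aeval_algHom_apply, hφroot]]
      induction P using Polynomial.induction_on' with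
      | add a b ha hb => rw [map_add, hfrob, ha, hb]
      | monomial n c => rw [aeval_monomial, mul_pow, hcast, ← pow_mul, mul_comm n, pow_mul, hg]
  have hfin : Finite (AdjoinRoot f) := Finite.of_injective φ hφinj
  have hgen : Algebra.adjoin (ZMod p) {AdjoinRoot.root f} = (⊤ : Subalgebra (ZMod p) (AdjoinRoot f)) :=
    AdjoinRoot.adjoinRoot_eq_top
  have hmin : minpoly (ZMod p) (AdjoinRoot.root f) = f := by
    rw [← minpoly.algHom_eq φ hφinj, hφroot]
  obtain ⟨ι, hι1, hι⟩ := exists_iota (u := zc u t) (h := t) hgen hzp hzc (fun Φ hΦ _ _ => by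
    rw [hmin]; exact wd_comp_one (zc u t) t Φ hΦ f hzm)
  have hpow : ∀ (i : ℕ) (s : AdjoinRoot f),
      t ^ i * ι (ofAdd s) * (t ^ i)⁻¹ = ι (ofAdd (AdjoinRoot.root f ^ i * s)) := by
    intro i
    induction i with
    | zero => intro s; simp
    | succ i ih => intro s; rw [pow_succ' (AdjoinRoot.root f), mul_assoc (AdjoinRoot.root f), ← hι, ← ih, pow_succ']; group
  refine ⟨fun b hb => ?_, AdjoinRoot f, inferInstance, hfin, ι,
    (Nat.card_le_card_of_injective (fun y => (⟨φ y, hrange y⟩ : {x : F // x ^ q = x}))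
      fun a b e => hφinj (congrArg Subtype.val e)).trans hfix.le, ?_⟩
  · rw [← hι1, hpow, mul_one]
    congr 2
    exact hφinj (by rw [map_pow, hφroot, hb, map_one])
  · rw [Zg, Subgroup.closure_le]
    rintro _ ⟨i, rfl⟩
    obtain ⟨k, hk⟩ := cj_periodic (u := zc u t) hN hper i
    refine ⟨ofAdd (AdjoinRoot.root f ^ k), ?_⟩
    rw [hk, cj_natCast, ← hι1, hpow, mul_one]

/-- **The Borel subgroup is small.** -/
theorem borel_bound [Finite F] {u t : G} {lam : F} (hgen : Algebra.adjoin (ZMod p) {lam} = ⊤)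
    {N : ℕ} (hN : 0 < N) (hper : t ^ N = 1) (huz : ∀ i, Commute (cj u t i) (zc u t))
    (hup : u ^ p ∈ Zg u t)
    (huu : ∀ i j, cj u t i * cj u t j * (cj u t i)⁻¹ * (cj u t j)⁻¹ ∈ Zg u t)
    (hum : wd u t (minpoly (ZMod p) lam) ∈ Zg u t)
    {K : Type} [Finite K] (fz : K → G) (hfz : ∀ x ∈ Zg u t, ∃ y, fz y = x) :
    Finite (Subgroup.closure ({u, t} : Set G)) ∧
      Nat.card (Subgroup.closure ({u, t} : Set G)) ≤ Nat.card F * Nat.card K * N ∧
      ∀ x ∈ Subgroup.closure ({u, t} : Set G), ∃ a ∈ Ag u t, ∃ i : ℤ, x = a * t ^ i := by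
  classical
  obtain ⟨H, hu, ht, hnorm, hZH⟩ := exists_quot huz
  haveI := hnorm
  set N0 := (Zg u t).subgroupOf H
  let mk : H →* H ⧸ N0 := QuotientGroup.mk' N0
  have hone : ∀ {x : G} (hx : x ∈ H), x ∈ Zg u t → mk ⟨x, hx⟩ = 1 := fun hx hz =>
    (QuotientGroup.eq_one_iff _).2 (Subgroup.mem_subgroupOf.2 hz)
  let U : H := ⟨u, hu⟩
  let T : H := ⟨t, ht⟩
  have hcj : ∀ i, (cj U T i : H).1 = cj u t i := fun i => map_cj H.subtype U T i
  have hcomm : ∀ i j, Commute (cj (mk U) (mk T) i) (cj (mk U) (mk T) j) := fun i j => by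
    rw [← map_cj mk, ← map_cj mk, commute_iff_eq, ← mul_inv_eq_one, mul_inv_rev, ← mul_assoc,
      ← map_inv, ← map_inv, ← map_mul, ← map_mul, ← map_mul]
    refine (QuotientGroup.eq_one_iff _).2 (Subgroup.mem_subgroupOf.2 ?_)
    simp only [Subgroup.coe_mul, Subgroup.coe_inv, hcj]
    exact huu i j
  obtain ⟨ι, hι1, hι⟩ := exists_iota (F := F) (u := mk U) (h := mk T) hgen
    (by rw [← map_pow]; exact hone (pow_mem hu p) hup) hcomm (fun Φ hΦ _ _ => wd_comp_one _ _ Φ hΦ _ (by
      rw [← map_wd mk]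
      refine (QuotientGroup.eq_one_iff _).2 (Subgroup.mem_subgroupOf.2 ?_)
      show H.subtype _ ∈ _
      rw [map_wd]
      exact hum))
  choose σ hσ using fun x : F => QuotientGroup.mk'_surjective N0 (ι (ofAdd x))
  have hA : ∀ a ∈ Ag u t, ∃ x : F, ∃ y : K, a = (σ x).1 * fz y := by
    intro a ha
    have hAH : Ag u t ≤ H := by
      rw [Ag, Subgroup.closure_le]
      rintro _ ⟨i, rfl⟩
      rw [← hcj i]; exact (cj U T i).2
    have hrange : mk ⟨a, hAH ha⟩ ∈ ι.range := by
      have : Ag u t ≤ (ι.range.comap mk).map H.subtype := by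
        rw [Ag, Subgroup.closure_le]
        rintro _ ⟨i, rfl⟩
        refine ⟨cj U T i, ?_, hcj i⟩
        show mk (cj U T i) ∈ ι.range
        rw [map_cj]
        refine cj_mem_of_stable hN (show (mk T) ^ N = 1 by
          rw [← map_pow, show T ^ N = 1 from Subtype.ext hper, map_one]) ?_ ?_ i
        · exact ⟨ofAdd 1, hι1⟩
        · rintro _ ⟨s, rfl⟩
          exact ⟨ofAdd (lam * Multiplicative.toAdd s), (hι _).symm⟩
      obtain ⟨b, hb, e⟩ := this ha
      obtain rfl : b = ⟨a, hAH ha⟩ := Subtype.ext e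
      exact hb
    obtain ⟨s, hs⟩ := hrange
    refine ⟨Multiplicative.toAdd s, ?_⟩
    have hmem : ((σ (Multiplicative.toAdd s)).1)⁻¹ * a ∈ Zg u t := by
      have h1 : mk ((σ (Multiplicative.toAdd s))⁻¹ * ⟨a, hAH ha⟩) = 1 := by
        rw [map_mul, map_inv, show mk (σ (Multiplicative.toAdd s)) = ι s from hσ _, hs, inv_mul_cancel]
      exact Subgroup.mem_subgroupOf.1 ((QuotientGroup.eq_one_iff _).1 h1)
    obtain ⟨y, hy⟩ := hfz _ hmem
    exact ⟨y, by rw [hy, mul_inv_cancel_left]⟩
  have hB : ∀ x ∈ Subgroup.closure ({u, t} : Set G), ∃ a ∈ Ag u t, ∃ i : ℤ, x = a * t ^ i := by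
    intro x hx
    induction hx using Subgroup.closure_induction with
    | mem x hx =>
      rcases hx with rfl | rfl
      · exact ⟨x, u_mem x t, 0, by simp⟩
      · exact ⟨1, one_mem _, 1, by simp⟩
    | one => exact ⟨1, one_mem _, 0, by simp⟩
    | mul x y _ _ hx hy =>
      obtain ⟨a, ha, i, rfl⟩ := hx
      obtain ⟨b, hb, j, rfl⟩ := hy
      exact ⟨a * (t ^ i * b * (t ^ i)⁻¹), mul_mem ha (shift_mem i hb), i + j, by rw [zpow_add]; group⟩
    | inv x _ hx =>
      obtain ⟨a, ha, i, rfl⟩ := hx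
      exact ⟨t ^ (-i) * a⁻¹ * (t ^ (-i))⁻¹, shift_mem _ (inv_mem ha), -i, by group⟩
  let f : F × K × Fin N → G := fun z => (σ z.1).1 * fz z.2.1 * t ^ (z.2.2 : ℕ)
  have hsub : ∀ x : Subgroup.closure ({u, t} : Set G), ∃ z, f z = x.1 := by
    rintro ⟨x, hx⟩
    obtain ⟨a, ha, i, rfl⟩ := hB x hx
    obtain ⟨s, y, rfl⟩ := hA a ha
    refine ⟨(s, y, ⟨(i % (N : ℤ)).toNat, ?_⟩), ?_⟩
    · have := Int.emod_lt_of_pos i (show (0 : ℤ) < N by omega)
      have := Int.emod_nonneg i (show (N : ℤ) ≠ 0 by omega)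
      omega
    · show (σ s).1 * fz y * t ^ (i % (N : ℤ)).toNat = _
      rw [← zpow_natCast t, Int.toNat_of_nonneg (Int.emod_nonneg _ (by omega)), ← zpow_eq_zpow_emod' i hper]
  choose r hr using hsub
  have hrinj : Function.Injective r := fun a b e => Subtype.ext (by rw [← hr a, ← hr b, e])
  refine ⟨Finite.of_injective r hrinj, ?_, hB⟩
  refine (Nat.card_le_card_of_injective r hrinj).trans (le_of_eq ?_)
  rw [Nat.card_prod, Nat.card_prod, Nat.card_fin, mul_assoc]

/-- Commutation with the centre from one relation. -/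
theorem huz_of_step {u t : G} {N : ℕ} (hN : 0 < N) (hper : t ^ N = 1) {S : Set G}
    (hS : ∀ x ∈ S, Commute x (zc u t)) (hu : u ∈ Subgroup.closure S)
    (hst : ∀ x ∈ S, t * x * t⁻¹ ∈ Subgroup.closure S) (i : ℤ) : Commute (cj u t i) (zc u t) := by
  have hst' : ∀ a ∈ Subgroup.closure S, t * a * t⁻¹ ∈ Subgroup.closure S := fun a ha => by
    have : (Subgroup.closure S).map (MulAut.conj t).toMonoidHom ≤ Subgroup.closure S := by
      rw [MonoidHom.map_closure, Subgroup.closure_le]
      rintro _ ⟨x, hx, rfl⟩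
      exact hst x hx
    exact this ⟨a, ha, rfl⟩
  have hmem := cj_mem_of_stable hN hper hu hst' i
  have hle : Subgroup.closure S ≤ Subgroup.centralizer {zc u t} := by
    rw [Subgroup.closure_le]
    intro x hx
    exact Subgroup.mem_centralizer_singleton_iff.2 (hS x hx).eq
  exact Subgroup.mem_centralizer_singleton_iff.1 (hle hmem)

/-- The facts from the relations at the multiples of `b`. -/
theorem facts_general {u t : G} {N b : ℕ} {a : ℤ} (hN : 0 < N) (hper : t ^ N = 1)
    (hzc : ∀ i j, Commute (cj (zc u t) t i) (cj (zc u t) t j))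
    (hzb : t ^ b * zc u t * (t ^ b)⁻¹ = zc u t) (huz1 : Commute u (zc u t))
    (hub : u * cj u t b * u⁻¹ * (cj u t b)⁻¹ ∈ Zg u t)
    (hua : cj u t a * (u * cj u t b)⁻¹ ∈ Zg u t) {P : (ZMod p)[X]}
    (huP : cj u t 1 * (wd u (t ^ b) P)⁻¹ ∈ Zg u t) :
    (∀ i, Commute (cj u t i) (zc u t)) ∧
      ∀ i j, cj u t i * cj u t j * (cj u t i)⁻¹ * (cj u t j)⁻¹ ∈ Zg u t := by
  classical
  have hzk : ∀ k : ℤ, cj (zc u t) t (k * b) = zc u t := by
    have hstep : ∀ j : ℤ, cj (zc u t) t (j + b) = cj (zc u t) t j := fun j => by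
      rw [cj_shift _ _ j b, cj_natCast, hzb]; rfl
    intro k
    induction k using Int.induction_on with
    | zero => simp [cj_zero]
    | succ n ih => rw [add_mul, one_mul, hstep, ih]
    | pred n ih =>
      have h := hstep ((-(n : ℤ) - 1) * b)
      rw [show (-(n : ℤ) - 1) * b + b = -(n : ℤ) * b by ring, ih] at h
      exact h.symm
  have huk : ∀ k : ℤ, Commute (cj u t (k * b)) (zc u t) := fun k => by
    have := huz1.map (MulAut.conj (t ^ (k * (b : ℤ)))).toMonoidHom
    rw [← hzk k]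
    exact this
  set S : Set G := Set.range (fun k : ℤ => cj u t (k * b)) ∪ Set.range (cj (zc u t) t)
  have hSu : ∀ k : ℤ, cj u t (k * b) ∈ Subgroup.closure S := fun k =>
    Subgroup.subset_closure (Or.inl ⟨k, rfl⟩)
  have hSz : Zg u t ≤ Subgroup.closure S := Subgroup.closure_mono Set.subset_union_right
  have h1 : cj u t 1 ∈ Subgroup.closure S := by
    have h2 : wd u (t ^ b) P ∈ Subgroup.closure S := wd_mem _ (fun k => by
      rw [cj_natCast, ← pow_mul, ← cj_natCast, Nat.cast_mul, mul_comm]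
      exact hSu _) P
    have := mul_mem (hSz huP) h2
    rwa [inv_mul_cancel_right] at this
  have hshiftb : ∀ (k : ℤ), ∀ x ∈ Subgroup.closure S,
      t ^ (k * b) * x * (t ^ (k * (b : ℤ)))⁻¹ ∈ Subgroup.closure S := by
    intro k x hx
    have : (Subgroup.closure S).map (MulAut.conj (t ^ (k * (b : ℤ)))).toMonoidHom ≤ Subgroup.closure S := by
      rw [MonoidHom.map_closure, Subgroup.closure_le]
      rintro _ ⟨_, ⟨l, rfl⟩ | ⟨l, rfl⟩, rfl⟩
      · show t ^ (k * (b : ℤ)) * cj u t (l * b) * (t ^ (k * (b : ℤ)))⁻¹ ∈ _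
        rw [← cj_shift, ← add_mul]; exact hSu _
      · show t ^ (k * (b : ℤ)) * cj (zc u t) t l * (t ^ (k * (b : ℤ)))⁻¹ ∈ _
        rw [← cj_shift]; exact hSz (Subgroup.subset_closure ⟨_, rfl⟩)
    exact this ⟨x, hx, rfl⟩
  have huz : ∀ i, Commute (cj u t i) (zc u t) := by
    refine huz_of_step hN hper (S := S) ?_ (by simpa [cj_zero] using hSu 0) ?_
    · rintro x (⟨k, rfl⟩ | ⟨k, rfl⟩)
      · exact huk k
      · simpa [cj_zero] using hzc k 0
    · rintro x (⟨k, rfl⟩ | ⟨k, rfl⟩)
      · show t * cj u t (k * b) * t⁻¹ ∈ _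
        have := hshiftb k _ h1
        rw [← cj_shift, add_comm, cj_shift, zpow_one] at this
        exact this
      · show t * cj (zc u t) t k * t⁻¹ ∈ _
        have := cj_shift (zc u t) t 1 k
        rw [zpow_one] at this
        rw [← this]
        exact hSz (Subgroup.subset_closure ⟨_, rfl⟩)
  refine ⟨huz, fun i j => ?_⟩
  obtain ⟨H, hu, ht, hnorm, hZH⟩ := exists_quot huz
  haveI := hnorm
  let U : H := ⟨u, hu⟩
  let T : H := ⟨t, ht⟩
  set N0 := (Zg u t).subgroupOf H
  let mk : H →* H ⧸ N0 := QuotientGroup.mk' N0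
  have hmk : ∀ {x y : H}, mk x = mk y ↔ x.1 * y.1⁻¹ ∈ Zg u t := fun {x y} => by
    rw [← mul_inv_eq_one, ← map_inv, ← map_mul]
    exact (QuotientGroup.eq_one_iff _).trans Subgroup.mem_subgroupOf
  have hcj : ∀ i, (cj U T i : H).1 = cj u t i := fun i => map_cj H.subtype U T i
  have hcomm := commute_all (u := mk U) (h := mk T) (b := b)
    (commute_multiples (a := a) (b := (b : ℤ)) ?_ ?_) hN
    (show (mk T) ^ N = 1 by rw [← map_pow, show T ^ N = 1 from Subtype.ext hper, map_one])
    (P := P) ?_ i j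
  · rw [← map_cj mk, ← map_cj mk] at hcomm
    have := hmk.1 (show mk (cj U T i * cj U T j) = mk (cj U T j * cj U T i) by
      rw [map_mul, map_mul, hcomm.eq])
    simpa [hcj, mul_assoc] using this
  · rw [← map_cj mk]
    show mk U * mk (cj U T b) = mk (cj U T b) * mk U
    rw [← map_mul, ← map_mul, hmk]
    simpa [hcj, U, mul_assoc] using hub
  · rw [← map_cj mk, ← map_cj mk, ← map_mul, hmk]
    simpa [hcj, U] using hua
  · rw [← map_cj mk, ← map_pow, ← map_wd mk, hmk]
    have e : (wd U (T ^ b) P).1 = wd u (t ^ b) P := map_wd H.subtype U (T ^ b) P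
    rw [hcj, e]
    exact huP

/-- The facts from finitely many relations. -/
theorem facts_small {u t : G} {N d : ℕ} (hN : 0 < N) (hper : t ^ N = 1)
    (hzc : ∀ i j, Commute (cj (zc u t) t i) (cj (zc u t) t j))
    (hd : 0 < d) (huz1 : ∀ i : ℕ, i < d → Commute (cj u t i) (zc u t))
    (huu1 : ∀ j : ℕ, j < d → u * cj u t j * u⁻¹ * (cj u t j)⁻¹ ∈ Zg u t) {f : (ZMod p)[X]}
    (hfd : f.natDegree = d) (hfm : f.Monic) (hum : wd u t f ∈ Zg u t) :
    (∀ i, Commute (cj u t i) (zc u t)) ∧
      ∀ i j, cj u t i * cj u t j * (cj u t i)⁻¹ * (cj u t j)⁻¹ ∈ Zg u t := by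
  classical
  set S : Set G := (fun i : ℕ => cj u t i) '' Set.Iio d ∪ Set.range (cj (zc u t) t)
  have hSu : ∀ i : ℕ, i < d → cj u t i ∈ Subgroup.closure S := fun i hi =>
    Subgroup.subset_closure (Or.inl ⟨i, hi, rfl⟩)
  have hSz : Zg u t ≤ Subgroup.closure S := Subgroup.closure_mono Set.subset_union_right
  have hlast : cj u t d ∈ Subgroup.closure S := by
    have hp1 : ((List.range d).map fun i => (t ^ i * u * (t ^ i)⁻¹) ^ (f.coeff i).val).prod ∈
        Subgroup.closure S := by
      refine list_prod_mem fun x hx => ?_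
      obtain ⟨i, hi, rfl⟩ := List.mem_map.1 hx
      rw [← cj_natCast]
      exact pow_mem (hSu i (List.mem_range.1 hi)) _
    have h := hSz hum
    rw [wd, hfd, List.range_succ, List.map_append, List.prod_append] at h
    have hc : f.coeff d = 1 := by rw [← hfd]; exact hfm.coeff_natDegree
    simp only [List.map_cons, List.map_nil, List.prod_cons, List.prod_nil, mul_one, hc, ZMod.val_one,
      pow_one] at h
    rw [cj_natCast]
    have := mul_mem (inv_mem hp1) h
    rwa [inv_mul_cancel_left] at this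
  have hstep : ∀ x ∈ S, t * x * t⁻¹ ∈ Subgroup.closure S := by
    rintro x (⟨i, hi, rfl⟩ | ⟨k, rfl⟩)
    · show t * cj u t i * t⁻¹ ∈ _
      have := cj_shift u t 1 i
      rw [zpow_one] at this
      rw [← this, show (1 : ℤ) + (i : ℤ) = ((i + 1 : ℕ) : ℤ) by push_cast; ring]
      rcases Nat.lt_or_ge (i + 1) d with h | h
      · exact hSu _ h
      · obtain rfl : i + 1 = d := le_antisymm (Nat.succ_le_of_lt hi) h
        exact hlast
    · show t * cj (zc u t) t k * t⁻¹ ∈ _
      have := cj_shift (zc u t) t 1 k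
      rw [zpow_one] at this
      rw [← this]
      exact hSz (Subgroup.subset_closure ⟨_, rfl⟩)
  have hu0 : u ∈ Subgroup.closure S := by simpa [cj_zero] using hSu 0 hd
  have huz : ∀ i, Commute (cj u t i) (zc u t) := by
    refine huz_of_step hN hper (S := S) ?_ hu0 hstep
    rintro x (⟨i, hi, rfl⟩ | ⟨k, rfl⟩)
    · exact huz1 i hi
    · simpa [cj_zero] using hzc k 0
  refine ⟨huz, fun i j => ?_⟩
  obtain ⟨H, hu, ht, hnorm, hZH⟩ := exists_quot huz
  haveI := hnorm
  let U : H := ⟨u, hu⟩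
  let T : H := ⟨t, ht⟩
  set N0 := (Zg u t).subgroupOf H
  let mk : H →* H ⧸ N0 := QuotientGroup.mk' N0
  have hmk : ∀ {x y : H}, mk x = mk y ↔ x.1 * y.1⁻¹ ∈ Zg u t := fun {x y} => by
    rw [← mul_inv_eq_one, ← map_inv, ← map_mul]
    exact (QuotientGroup.eq_one_iff _).trans Subgroup.mem_subgroupOf
  have hcj : ∀ i, (cj U T i : H).1 = cj u t i := fun i => map_cj H.subtype U T i
  have hlow : ∀ a b : ℕ, a < d → b < d → mk (cj U T a) * mk (cj U T b) = mk (cj U T b) * mk (cj U T a) := by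
    have half : ∀ a b : ℕ, a ≤ b → b < d →
        mk (cj U T a) * mk (cj U T b) = mk (cj U T b) * mk (cj U T a) := by
      intro a b hab hb
      have e : Commute (mk (cj U T 0)) (mk (cj U T ((b - a : ℕ) : ℤ))) := by
        show _ * _ = _ * _
        rw [← map_mul, ← map_mul, hmk]
        simpa [hcj, U, cj_zero, mul_assoc] using huu1 (b - a) (by omega)
      have := e.map (MulAut.conj (mk T ^ (a : ℤ))).toMonoidHom
      rw [map_cj mk, map_cj mk] at this
      rw [show (MulAut.conj (mk T ^ (a : ℤ))).toMonoidHom (cj (mk U) (mk T) 0) = cj (mk U) (mk T) a by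
          show mk T ^ (a : ℤ) * cj (mk U) (mk T) 0 * (mk T ^ (a : ℤ))⁻¹ = _
          rw [← cj_shift, add_zero],
        show (MulAut.conj (mk T ^ (a : ℤ))).toMonoidHom (cj (mk U) (mk T) ((b - a : ℕ) : ℤ)) =
            cj (mk U) (mk T) b by
          show mk T ^ (a : ℤ) * cj (mk U) (mk T) ((b - a : ℕ) : ℤ) * (mk T ^ (a : ℤ))⁻¹ = _
          rw [← cj_shift]; congr 1; omega] at this
      rw [map_cj mk, map_cj mk]
      exact this.eq
    intro a b ha hb
    rcases Nat.le_total a b with h | h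
    · exact half a b h hb
    · exact (half b a h ha).symm
  -- the abelian image
  set A : Subgroup (H ⧸ N0) := Subgroup.closure ((fun a : ℕ => mk (cj U T a)) '' Set.Iio d)
  have hA : IsMulCommutative A := Subgroup.isMulCommutative_closure (by
    rintro _ ⟨a, ha, rfl⟩ _ ⟨b, hb, rfl⟩
    exact hlow a b ha hb)
  have hall : ∀ i : ℤ, mk (cj U T i) ∈ A := by
    intro i
    rw [map_cj]
    refine cj_mem_of_stable hN
      (show (mk T) ^ N = 1 by rw [← map_pow, show T ^ N = 1 from Subtype.ext hper, map_one]) ?_ ?_ i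
    · exact Subgroup.subset_closure ⟨0, hd, by simp [cj_zero]⟩
    · intro a ha
      have hle : A.map (MulAut.conj (mk T)).toMonoidHom ≤ A := by
        rw [MonoidHom.map_closure, Subgroup.closure_le]
        rintro _ ⟨_, ⟨a, ha, rfl⟩, rfl⟩
        show mk T * mk (cj U T a) * (mk T)⁻¹ ∈ A
        have e := cj_shift (mk U) (mk T) 1 a
        rw [zpow_one] at e
        rw [map_cj, ← e, show (1 : ℤ) + (a : ℤ) = ((a + 1 : ℕ) : ℤ) by push_cast; ring, ← map_cj mk]
        rcases Nat.lt_or_ge (a + 1) d with h | h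
        · exact Subgroup.subset_closure ⟨_, h, rfl⟩
        · obtain rfl : a + 1 = d := le_antisymm (Nat.succ_le_of_lt ha) h
          have hpre : ∀ y ∈ Subgroup.closure S, ∃ hy : y ∈ H, mk ⟨y, hy⟩ ∈ A := by
            intro y hy
            induction hy using Subgroup.closure_induction with
            | mem y hy =>
              rcases hy with ⟨b, hb, rfl⟩ | ⟨k, rfl⟩
              · refine ⟨by show cj u t b ∈ H; rw [← hcj]; exact (cj U T b).2, ?_⟩
                refine Subgroup.subset_closure ⟨b, hb, ?_⟩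
                exact congrArg mk (Subtype.ext (hcj b))
              · refine ⟨hZH (Subgroup.subset_closure ⟨k, rfl⟩), ?_⟩
                have hone : mk ⟨cj (zc u t) t k, hZH (Subgroup.subset_closure ⟨k, rfl⟩)⟩ = 1 :=
                  (QuotientGroup.eq_one_iff _).2
                    (Subgroup.mem_subgroupOf.2 (Subgroup.subset_closure ⟨k, rfl⟩))
                exact hone.symm ▸ one_mem A
            | one => exact ⟨one_mem H, by rw [show (⟨1, one_mem H⟩ : H) = 1 from rfl, map_one]; exact one_mem A⟩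
            | mul a b _ _ ha hb =>
              obtain ⟨h1, e1⟩ := ha
              obtain ⟨h2, e2⟩ := hb
              exact ⟨mul_mem h1 h2, by
                rw [show (⟨a * b, mul_mem h1 h2⟩ : H) = ⟨a, h1⟩ * ⟨b, h2⟩ from rfl, map_mul]
                exact mul_mem e1 e2⟩
            | inv a _ ha =>
              obtain ⟨h1, e1⟩ := ha
              exact ⟨inv_mem h1, by
                rw [show (⟨a⁻¹, inv_mem h1⟩ : H) = ⟨a, h1⟩⁻¹ from rfl, map_inv]
                exact inv_mem e1⟩
          obtain ⟨hy, e⟩ := hpre _ hlast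
          convert e using 2
          exact Subtype.ext (hcj _)
      exact hle ⟨a, ha, rfl⟩
  have := congrArg Subtype.val (hA.is_comm.comm ⟨_, hall i⟩ ⟨_, hall j⟩)
  have h2 := hmk.1 (show mk (cj U T i * cj U T j) = mk (cj U T j * cj U T i) by
    rw [map_mul, map_mul]; exact this)
  simpa [hcj, mul_assoc] using h2

end field

end CfsgLib.SU3Pres
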