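import Cfsg.Agent.SU3Pres.Count
import Cfsg.Agent.SU3Pres.Borel

/-!
Two cells from few Steinberg relations.
-/

set_option autoImplicit false
set_option linter.unusedSectionVars false
set_option linter.style.haveILetI false

namespace CfsgLib.SU3Pres

open CfsgLib.Forms CfsgLib.Unitary CfsgLib.SL2Pres

variable {F : Type*} [Field F] [Finite F] {q : ℕ} {hF : Nat.card F = q ^ 2} {G : Type*} [Group G]

/-- A group mapping to the model with faithful Borel subgroup. -/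
structure Setup (hF : Nat.card F = q ^ 2) (G : Type*) [Group G] where
  /-- the map to the model -/
  π : G →* HU F q
  /-- the unipotent generator -/
  u : G
  /-- the torus generator -/
  t : G
  /-- the Weyl generator -/
  w : G
  /-- the torus parameter -/
  α : Fˣ
  αgen : ∀ k : Fˣ, ∃ i : ℕ, α ^ i = k
  πt : π t = tel hF α
  πw : π w = wel hF
  wsq : w * w = 1
  wt : w * t * w⁻¹ = (t ^ q)⁻¹
  inj : ∀ x ∈ Subgroup.closure ({u, t} : Set G), π x = 1 → x = 1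
  πA : ∀ x ∈ Ag u t, ∃ z : UP F q, π x = uP hF z
  surA : ∀ z : UP F q, ∃ x ∈ Ag u t, π x = uP hF z
  top : Subgroup.closure ({u, t, w} : Set G) = ⊤

theorem vld_zero_left {b : F} (h : Vld q (0 : F) b) : b + b ^ q = 0 := by
  unfold Vld at h; linear_combination h

namespace Setup

variable (S : Setup hF G)

theorem w_inv : S.w⁻¹ = S.w := inv_eq_of_mul_eq_one_right S.wsq

theorem w_pow (i : ℤ) : S.w * S.t ^ i * S.w = S.t ^ (-(q : ℤ) * i) := by
  nth_rw 2 [← S.w_inv]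
  rw [← conj_zpow, S.wt, ← zpow_natCast, ← zpow_neg, ← zpow_mul]

theorem w_swap (i : ℤ) : S.w * S.t ^ i = S.t ^ (-(q : ℤ) * i) * S.w := by
  rw [← S.w_pow, mul_assoc, S.wsq, mul_one]

theorem conj_A (i : ℤ) {x : G} (hx : x ∈ Ag S.u S.t) : S.t ^ i * x * (S.t ^ i)⁻¹ ∈ Ag S.u S.t :=
  shift_mem i hx

theorem A_le : Ag S.u S.t ≤ Subgroup.closure ({S.u, S.t} : Set G) := by
  rw [Ag, Subgroup.closure_le]
  rintro _ ⟨i, rfl⟩
  have hu : S.u ∈ Subgroup.closure ({S.u, S.t} : Set G) := Subgroup.subset_closure (Or.inl rfl)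
  have ht : S.t ∈ Subgroup.closure ({S.u, S.t} : Set G) := Subgroup.subset_closure (Or.inr rfl)
  exact mul_mem (mul_mem (zpow_mem ht i) hu) (inv_mem (zpow_mem ht i))

theorem t_pow_mem (i : ℤ) : S.t ^ i ∈ Subgroup.closure ({S.u, S.t} : Set G) :=
  zpow_mem (Subgroup.subset_closure (Set.mem_insert_of_mem _ (Set.mem_singleton _))) i

theorem eq_of_π {x y : G} (hx : x ∈ Subgroup.closure ({S.u, S.t} : Set G))
    (hy : y ∈ Subgroup.closure ({S.u, S.t} : Set G)) (e : S.π x = S.π y) : x = y :=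
  by
  have h : x⁻¹ * y = 1 :=
    S.inj (x⁻¹ * y) (mul_mem (inv_mem hx) hy) (by rw [map_mul, map_inv, e, inv_mul_cancel])
  exact inv_mul_eq_one.mp h

theorem π_t_zpow (i : ℤ) : S.π (S.t ^ i) = tel hF (S.α ^ i) := by rw [map_zpow, S.πt, ← map_zpow]

theorem borel_elem {x : G} (hx : x ∈ Subgroup.closure ({S.u, S.t} : Set G)) :
    ∃ a ∈ Ag S.u S.t, ∃ i : ℤ, x = a * S.t ^ i := by
  induction hx using Subgroup.closure_induction with
  | mem x hx =>
    rcases hx with rfl | rfl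
    · exact ⟨_, u_mem S.u S.t, 0, by simp⟩
    · exact ⟨1, one_mem _, 1, by simp⟩
  | one => exact ⟨1, one_mem _, 0, by simp⟩
  | mul x y _ _ hx hy =>
    obtain ⟨a, ha, i, rfl⟩ := hx
    obtain ⟨b, hb, j, rfl⟩ := hy
    exact ⟨a * (S.t ^ i * b * (S.t ^ i)⁻¹), mul_mem ha (S.conj_A i hb), i + j, by rw [zpow_add]; group⟩
  | inv x _ hx =>
    obtain ⟨a, ha, i, rfl⟩ := hx
    exact ⟨S.t ^ (-i) * a⁻¹ * (S.t ^ (-i))⁻¹, S.conj_A _ (inv_mem ha), -i, by group⟩

/-- An element of the Borel subgroup with unipotent image is unipotent. -/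
theorem mem_A_of_π {x : G} (hx : x ∈ Subgroup.closure ({S.u, S.t} : Set G)) {z : UP F q}
    (e : S.π x = uP hF z) : x ∈ Ag S.u S.t := by
  obtain ⟨a, ha, i, rfl⟩ := S.borel_elem hx
  obtain ⟨z', hz'⟩ := S.πA a ha
  rw [map_mul, hz', S.π_t_zpow] at e
  obtain ⟨-, h⟩ := borel_inj hF (e.trans (show uP hF z = uP hF z * tel hF 1 by rw [map_one, mul_one]))
  have : S.t ^ i = 1 := S.inj _ (S.t_pow_mem i) (by rw [S.π_t_zpow, h, map_one])
  rw [this, mul_one]; exact ha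

/-- The Steinberg relation at a parameter. -/
def Good (a b : F) : Prop :=
  ∀ (h : Vld q a b) (x : G), x ∈ Ag S.u S.t → S.π x = uel hF a b h →
    ∃ x1 ∈ Ag S.u S.t, ∃ j : ℤ, ∃ x2 ∈ Ag S.u S.t, S.w * x * S.w = x1 * S.t ^ j * S.w * x2

theorem good_of_rel {a b : F} {h : Vld q a b} {x x1 x2 : G}
    (hx : x ∈ Subgroup.closure ({S.u, S.t} : Set G)) (hx1 : x1 ∈ Subgroup.closure ({S.u, S.t} : Set G))
    (hx2 : x2 ∈ Subgroup.closure ({S.u, S.t} : Set G)) {z1 z2 : UP F q} (e : S.π x = uel hF a b h)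
    (e1 : S.π x1 = uP hF z1) (e2 : S.π x2 = uP hF z2) {j : ℤ}
    (hrel : S.w * x * S.w = x1 * S.t ^ j * S.w * x2) : S.Good a b := by
  intro h' y hy ey
  obtain rfl : x = y := S.eq_of_π hx (S.A_le hy) (by rw [e, ey])
  exact ⟨x1, S.mem_A_of_π hx1 e1, j, x2, S.mem_A_of_π hx2 e2, hrel⟩

/-- The parts of the cell are forced. -/
theorem cell_parts {a b : F} (h : Vld q a b) (hb : b ≠ 0) {x x1 x2 : G} {j : ℤ}
    (hx1 : x1 ∈ Ag S.u S.t) (hx2 : x2 ∈ Ag S.u S.t) (e : S.π x = uel hF a b h)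
    (hrel : S.w * x * S.w = x1 * S.t ^ j * S.w * x2) :
    S.π x1 = uel hF (-a / b ^ q) b⁻¹ (vld_left hF h hb) ∧
      S.π x2 = uel hF (-a / b) b⁻¹ (vld_right hF h hb) := by
  obtain ⟨z1, e1⟩ := S.πA x1 hx1
  obtain ⟨z2, e2⟩ := S.πA x2 hx2
  have h2 := congrArg S.π hrel
  rw [map_mul, map_mul, map_mul, map_mul, map_mul, S.πw, e, e1, e2, S.π_t_zpow,
    wel_uel_wel hF h hb] at h2
  have := cellFun_injective hF
    (a₁ := (⟨(-a / b ^ q, b⁻¹), vld_left hF h hb⟩, Units.mk0 (b ^ q)⁻¹ (inv_ne_zero (pow_ne_zero q hb)),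
      some ⟨(-a / b, b⁻¹), vld_right hF h hb⟩))
    (a₂ := (z1, S.α ^ j, some z2)) h2
  rw [Prod.mk.injEq, Prod.mk.injEq, Option.some.injEq] at this
  obtain ⟨rfl, -, rfl⟩ := this
  exact ⟨e1, e2⟩

theorem good_mul {a b c d : F} (h : Vld q a b) (h' : Vld q c d) (hb : b ≠ 0) (hd : d ≠ 0)
    (g1 : S.Good a b) (g2 : S.Good c d)
    (g3 : S.Good (-a / b + -c / d ^ q) (b⁻¹ + d⁻¹ - -a / b * (-c / d ^ q) ^ q)) :
    S.Good (a + c) (b + d - a * c ^ q) := by
  intro H z hz ez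
  obtain ⟨x, hx, ex⟩ := S.surA ⟨(a, b), h⟩
  obtain ⟨y, hy, ey⟩ := S.surA ⟨(c, d), h'⟩
  obtain rfl : x * y = z := S.eq_of_π (mul_mem (S.A_le hx) (S.A_le hy)) (S.A_le hz) (by
    rw [map_mul, ex, ey, ez]; exact uel_mul hF h h')
  obtain ⟨x1, hx1, j, x2, hx2, rx⟩ := g1 h x hx ex
  obtain ⟨y1, hy1, l, y2, hy2, ry⟩ := g2 h' y hy ey
  obtain ⟨-, ex2⟩ := S.cell_parts h hb hx1 hx2 ex rx
  obtain ⟨ey1, -⟩ := S.cell_parts h' hd hy1 hy2 ey ry
  have hm := vld_mul hF (vld_right hF h hb) (vld_left hF h' hd)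
  obtain ⟨m1, hm1, k, m2, hm2, rm⟩ := g3 hm (x2 * y1) (mul_mem hx2 hy1)
    (by rw [map_mul, ex2, ey1]; exact uel_mul hF _ _)
  set i := -(q : ℤ) * l
  refine ⟨x1 * (S.t ^ j * m1 * (S.t ^ j)⁻¹), mul_mem hx1 (S.conj_A j hm1), j + k + (-(q : ℤ) * i),
    S.t ^ (-i) * m2 * (S.t ^ (-i))⁻¹ * y2, mul_mem (S.conj_A _ hm2) hy2, ?_⟩
  calc S.w * (x * y) * S.w = (S.w * x * S.w) * (S.w * y * S.w) := by
        rw [show S.w * x * S.w * (S.w * y * S.w) = S.w * x * (S.w * S.w) * y * S.w by group, S.wsq]; group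
    _ = x1 * S.t ^ j * (S.w * (x2 * y1) * S.w) * (S.w * S.t ^ l * S.w) * y2 := by
        rw [rx, ry, show x1 * S.t ^ j * (S.w * (x2 * y1) * S.w) * (S.w * S.t ^ l * S.w) * y2 =
          x1 * S.t ^ j * S.w * (x2 * y1) * (S.w * S.w) * S.t ^ l * S.w * y2 by group, S.wsq]
        group
    _ = x1 * S.t ^ j * (m1 * S.t ^ k * S.w * m2) * S.t ^ i * y2 := by rw [rm, S.w_pow]
    _ = x1 * (S.t ^ j * m1 * (S.t ^ j)⁻¹) * S.t ^ (j + k) * (S.w * S.t ^ i) *
          (S.t ^ (-i) * m2 * (S.t ^ (-i))⁻¹) * y2 := by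
        rw [zpow_add, zpow_neg]; group
    _ = _ := by rw [S.w_swap, zpow_add S.t (j + k)]; group

theorem good_conj (k : Fˣ) {a b : F} (h : Vld q a b) (g : S.Good a b) :
    S.Good (lam q (k : F) * a) ((k : F) * (k : F) ^ q * b) := by
  intro H z hz ez
  obtain ⟨i, rfl⟩ := S.αgen k
  obtain ⟨x, hx, ex⟩ := S.surA ⟨(a, b), h⟩
  obtain rfl : S.t ^ (i : ℤ) * x * (S.t ^ (i : ℤ))⁻¹ = z :=
    S.eq_of_π (S.A_le (S.conj_A _ hx)) (S.A_le hz) (by
      rw [map_mul, map_mul, map_inv, S.π_t_zpow, zpow_natCast, ex, ez]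
      exact tel_conj hF _ h)
  obtain ⟨x1, hx1, j, x2, hx2, rx⟩ := g h x hx ex
  set c : ℤ := -(q : ℤ) * i
  refine ⟨S.t ^ c * x1 * (S.t ^ c)⁻¹, S.conj_A _ hx1, c + j + (-(q : ℤ) * (-c)),
    S.t ^ c * x2 * (S.t ^ c)⁻¹, S.conj_A _ hx2, ?_⟩
  calc S.w * (S.t ^ (i : ℤ) * x * (S.t ^ (i : ℤ))⁻¹) * S.w
      = (S.w * S.t ^ (i : ℤ) * S.w) * (S.w * x * S.w) * (S.w * S.t ^ (-(i : ℤ)) * S.w) := by
        rw [show S.w * S.t ^ (i : ℤ) * S.w * (S.w * x * S.w) * (S.w * S.t ^ (-(i : ℤ)) * S.w) =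
          S.w * S.t ^ (i : ℤ) * (S.w * S.w) * x * (S.w * S.w) * S.t ^ (-(i : ℤ)) * S.w by group, S.wsq]
        group
    _ = S.t ^ c * (x1 * S.t ^ j * S.w * x2) * S.t ^ (-c) := by
        rw [S.w_pow, rx, S.w_pow, mul_neg]
    _ = S.t ^ c * x1 * (S.t ^ c)⁻¹ * S.t ^ (c + j) * (S.w * S.t ^ (-c)) *
          (S.t ^ c * x2 * (S.t ^ c)⁻¹) := by rw [zpow_add]; group
    _ = _ := by rw [S.w_swap, zpow_add S.t (c + j)]; group

include S in
theorem exists_skew_param : ∃ c : F, c ≠ 0 ∧ Vld q (0 : F) c := by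
  obtain ⟨c, hc, hc'⟩ := exists_skew hF
  exact ⟨c, hc, by unfold Vld; linear_combination hc'⟩

theorem good_centre {c : F} (hc : c ≠ 0) (hv : Vld q (0 : F) c) (g : S.Good 0 c) {b : F}
    (h : Vld q (0 : F) b) (hb : b ≠ 0) : S.Good 0 b := by
  have hbc : (b / c) ^ q = b / c := by
    rw [div_pow, show b ^ q = -b by linear_combination vld_zero_left h,
      show c ^ q = -c by linear_combination vld_zero_left hv, neg_div_neg_eq]
  obtain ⟨k, hk⟩ := exists_norm_eq hF hbc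
  have hk0 : k ≠ 0 := fun e => by
    rw [e, zero_pow (by omega)] at hk
    exact div_ne_zero hb hc hk.symm
  have := S.good_conj (Units.mk0 k hk0) hv g
  rw [Units.val_mk0, mul_zero, ← pow_succ', hk, div_mul_cancel₀ b hc] at this
  exact this

include hF in
theorem theta_trace {ω : F} (hω : ω * ω ^ q = 1) (h1 : ω ≠ 1) :
    (ω - 1)⁻¹ + ((ω - 1)⁻¹) ^ q = -1 := by
  have h0 : ω ≠ 0 := fun e => by simp [e] at hω
  have hD : ω - 1 ≠ 0 := sub_ne_zero.2 h1
  have e : (ω - 1) ^ q = -(ω - 1) / ω := by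
    rw [qsub hF, one_pow, eq_div_iff h0]
    linear_combination hω
  rw [inv_pow, e]
  field_simp
  ring

/-- All parameters with a given invariant. -/
def GoodAll (ω : F) : Prop := ∀ c : F, c ≠ 0 → S.Good c ((ω - 1)⁻¹ * (c * c ^ q))

theorem good_step (hZ : ∀ b, Vld q (0 : F) b → b ≠ 0 → S.Good 0 b) {ω ω1 : F} (hω : ω * ω ^ q = 1)
    (hω1 : ω1 * ω1 ^ q = 1) (n0 : ω ≠ 1) (n1 : ω1 ≠ 1) (n2 : ω * ω1 ≠ 1) (g : S.GoodAll ω)
    (g1 : S.GoodAll ω1) : S.GoodAll (ω * ω1) := by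
  intro c hc
  set N := c * c ^ q with hN
  have hcq : c ^ q ≠ 0 := pow_ne_zero q hc
  have hN0 : N ≠ 0 := mul_ne_zero hc hcq
  have hNq : N ^ q = N := by rw [hN, mul_pow, pow_q_q hF, mul_comm]
  have hvld : ∀ η : F, η * η ^ q = 1 → η ≠ 1 → Vld q c ((η - 1)⁻¹ * N) := fun η h1 h2 => by
    unfold Vld
    rw [mul_pow, hNq]
    linear_combination N * theta_trace (hF := hF) h1 h2 - hN
  have hω2 : (ω * ω1) * (ω * ω1) ^ q = 1 := by
    rw [mul_pow]; linear_combination (ω1 * ω1 ^ q) * hω + hω1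
  have h0 : ω ≠ 0 := fun e => by simp [e] at hω
  have hD : ω - 1 ≠ 0 := sub_ne_zero.2 n0
  have hD1 : ω1 - 1 ≠ 0 := sub_ne_zero.2 n1
  have hD2 : ω * ω1 - 1 ≠ 0 := sub_ne_zero.2 n2
  set d := (ω - 1)⁻¹ * N with hd
  set ε := (ω * ω1 - 1)⁻¹ * N - d with hε
  have hd0 : d ≠ 0 := mul_ne_zero (inv_ne_zero hD) hN0
  have hεv : Vld q (0 : F) ε := by
    have h1 := hvld _ hω2 n2
    have h2 := hvld _ hω n0
    unfold Vld at h1 h2 ⊢
    rw [hε, qsub hF]
    linear_combination h1 - h2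
  have hε0 : ε ≠ 0 := fun e => by
    rw [hε, hd, ← sub_mul, mul_eq_zero, or_iff_left hN0, sub_eq_zero, inv_inj] at e
    exact n1 (mul_left_cancel₀ h0 (by linear_combination e))
  have key := S.good_mul hεv (hvld _ hω n0) hε0 hd0 (hZ _ hεv hε0) (g c hc) ?_
  · rwa [zero_add, zero_mul, sub_zero, hε, sub_add_cancel] at key
  have hdq : d ^ q ≠ 0 := pow_ne_zero q hd0
  have := g1 (-c / d ^ q) (div_ne_zero (neg_ne_zero.2 hc) hdq)
  rw [neg_zero, zero_div, zero_add, zero_mul, sub_zero]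
  convert this using 1
  have eD : (ω - 1) ^ q = -(ω - 1) / ω := by
    rw [qsub hF, one_pow, eq_div_iff h0]
    linear_combination hω
  rw [div_pow, qneg hF, pow_q_q hF, hε, hd, mul_pow, inv_pow, eD, hNq, hN]
  field_simp
  have hden : (1 : F) - ω1 ≠ 0 := fun e => hD1 (by linear_combination -e)
  rw [show ω - 1 - (ω * ω1 - 1) = ω * (1 - ω1) by ring]
  field_simp
  ring

/-- The field element generating the norm one group. -/
theorem good_all {c : F} (hc : c ≠ 0) (hv : Vld q (0 : F) c) (gz : S.Good 0 c)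
    (g0 : ∀ i : ℕ, i < 3 → S.Good ((S.α : F) ^ i)
      ((((S.α : F) ^ (q - 1)) - 1)⁻¹ * ((S.α : F) ^ i * ((S.α : F) ^ i) ^ q)))
    {a b : F} (h : Vld q a b) (hb : b ≠ 0) : S.Good a b := by
  classical
  have hq := two_le_q hF
  set α : F := (S.α : F) with hα
  have hα0 : α ≠ 0 := S.α.ne_zero
  have hord : orderOf S.α = (q + 1) * (q - 1) := by
    rw [← card_units_eq hF]
    refine orderOf_eq_card_of_forall_mem_zpowers fun k => ?_
    obtain ⟨i, rfl⟩ := S.αgen k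
    exact ⟨i, zpow_natCast S.α i⟩
  have hαN : α ^ ((q - 1) * (q + 1)) = 1 := by
    rw [hα, ← Units.val_pow_eq_pow_val, mul_comm, ← hord, pow_orderOf_eq_one, Units.val_one]
  set ω0 := α ^ (q - 1) with hω0d
  have hω0 : ω0 * ω0 ^ q = 1 := by rw [← pow_succ', ← pow_mul, hαN]
  have hωne : ∀ i, 0 < i → i ≤ q → ω0 ^ i ≠ 1 := fun i h1 h2 e => by
    have e' : S.α ^ ((q - 1) * i) = 1 := Units.ext (by
      rw [Units.val_pow_eq_pow_val, ← hα, pow_mul, e, Units.val_one])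
    have hd := orderOf_dvd_of_pow_eq_one e'
    rw [hord, mul_comm (q + 1)] at hd
    have := Nat.le_of_dvd h1 ((Nat.mul_dvd_mul_iff_left (show 0 < q - 1 by omega)).1 hd)
    omega
  have hZ : ∀ b, Vld q (0 : F) b → b ≠ 0 → S.Good 0 b := fun b hb hb0 => S.good_centre hc hv gz hb hb0
  have hbase : S.GoodAll ω0 := by
    intro x hx
    obtain ⟨k, hk⟩ := S.αgen (Units.mk0 x hx)
    set M := S.α ^ ((k / 3) * (q + 2))
    have hx' : x = lam q (M : F) * α ^ (k % 3) := by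
      have e3 : lam q (α ^ (q + 2)) = α ^ 3 := by
        simp only [lam, pow_succ, pow_zero, one_mul, mul_pow, pow_q_q hF]
        field_simp
      rw [show (M : F) = (α ^ (q + 2)) ^ (k / 3) by
        rw [Units.val_pow_eq_pow_val, ← hα, ← pow_mul, mul_comm], lam_pow, e3, ← pow_mul, ← pow_add,
        show 3 * (k / 3) + k % 3 = k from Nat.div_add_mod k 3, hα, ← Units.val_pow_eq_pow_val, hk,
        Units.val_mk0]
    set r := α ^ (k % 3) with hr
    have hrv : Vld q r ((ω0 - 1)⁻¹ * (r * r ^ q)) := by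
      unfold Vld
      have h1 := theta_trace (hF := hF) hω0 (by have := hωne 1 one_pos (by omega); rwa [pow_one] at this)
      rw [mul_pow, mul_pow r, pow_q_q hF]
      linear_combination (r * r ^ q) * h1
    have := S.good_conj M hrv (g0 (k % 3) (Nat.mod_lt _ (by norm_num)))
    rw [hx']
    convert this using 1
    have hM : (M : F) ≠ 0 := M.ne_zero
    have e : lam q (M : F) * lam q (M : F) ^ q = (M : F) * (M : F) ^ q := by
      simp only [lam, div_pow, mul_pow, pow_q_q hF]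
      field_simp
    rw [mul_pow]
    linear_combination ((ω0 - 1)⁻¹ * (r * r ^ q)) * e
  have hall : ∀ i, i < q → S.GoodAll (ω0 ^ (i + 1)) := by
    intro i
    induction i with
    | zero => intro _; rw [zero_add, pow_one]; exact hbase
    | succ i ih =>
      intro hi
      rw [pow_succ]
      refine S.good_step hZ ?_ hω0 (hωne _ (Nat.succ_pos i) (by omega)) ?_ ?_ (ih (by omega)) hbase
      · rw [pow_right_comm ω0 (i + 1) q, ← mul_pow, hω0, one_pow]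
      · have := hωne 1 one_pos (by omega); rwa [pow_one] at this
      · rw [← pow_succ]; exact hωne _ (by omega) (by omega)
  by_cases ha : a = 0
  · subst ha; exact hZ b h hb
  set N := a * a ^ q with hN
  have hN0 : N ≠ 0 := mul_ne_zero ha (pow_ne_zero q ha)
  have hNq : N ^ q = N := by rw [hN, mul_pow, pow_q_q hF, mul_comm]
  set ω := 1 + N / b with hω
  have hωn : ω * ω ^ q = 1 := by
    unfold Vld at h
    rw [← hN] at h
    have hbq : b ^ q ≠ 0 := pow_ne_zero q hb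
    rw [hω, add_pow_q hF, one_pow, div_pow, hNq]
    field_simp
    linear_combination N * h
  have hωne1 : ω ≠ 1 := fun e => by
    rw [hω, add_eq_left] at e
    exact div_ne_zero hN0 hb e
  have hω00 : ω ≠ 0 := fun e => by simp [e] at hωn
  obtain ⟨k, hk⟩ := S.αgen (Units.mk0 ω hω00)
  have hkω : α ^ k = ω := by rw [hα, ← Units.val_pow_eq_pow_val, hk, Units.val_mk0]
  have hdiv : (q - 1) ∣ k := by
    have e : S.α ^ (k * (q + 1)) = 1 := Units.ext (by
      rw [Units.val_pow_eq_pow_val, ← hα, pow_mul, hkω, pow_succ', hωn, Units.val_one])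
    have hd := orderOf_dvd_of_pow_eq_one e
    rw [hord, mul_comm k] at hd
    exact (Nat.mul_dvd_mul_iff_left (show 0 < q + 1 by omega)).1 hd
  obtain ⟨m, rfl⟩ := hdiv
  have hm : ω0 ^ (m % (q + 1)) = ω := by
    rw [← hkω, pow_mul]
    conv_rhs => rw [← Nat.div_add_mod m (q + 1), pow_add, pow_mul _ (q + 1), ← pow_mul (α) (q - 1) (q + 1),
      hαN, one_pow, one_mul]
  obtain ⟨i, hi⟩ : ∃ i, m % (q + 1) = i + 1 := ⟨m % (q + 1) - 1, by
    rcases Nat.eq_zero_or_pos (m % (q + 1)) with e | e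
    · rw [e, pow_zero] at hm; exact absurd hm.symm hωne1
    · omega⟩
  have := hall i (by have := Nat.mod_lt m (show 0 < q + 1 by omega); omega) a ha
  rw [← hi, hm, hω, add_sub_cancel_left, inv_div, ← hN, div_mul_cancel₀ b hN0] at this
  exact this

theorem one_or_good (hg : ∀ a b : F, Vld q a b → b ≠ 0 → S.Good a b) {x : G} (hx : x ∈ Ag S.u S.t) :
    x = 1 ∨ ∃ x1 ∈ Ag S.u S.t, ∃ j : ℤ, ∃ x2 ∈ Ag S.u S.t, x2 ≠ 1 ∧
      S.w * x * S.w = x1 * S.t ^ j * S.w * x2 := by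
  obtain ⟨⟨⟨a, b⟩, h⟩, e⟩ := S.πA x hx
  by_cases hb : b = 0
  · left
    have ha : a = 0 := by_contra fun ha => vld_b_ne_zero hF h ha hb
    refine S.inj x (S.A_le hx) ?_
    rw [e, ← uel_zero hF]
    exact uel_congr hF _ _ ha hb
  · right
    obtain ⟨x1, hx1, j, x2, hx2, hrel⟩ := hg a b h hb h x hx e
    refine ⟨x1, hx1, j, x2, hx2, fun e2 => ?_, hrel⟩
    obtain ⟨-, h2⟩ := S.cell_parts h hb hx1 hx2 e hrel
    rw [e2, map_one, ← uel_zero hF] at h2
    exact inv_ne_zero hb (uel_injective hF h2).2.symm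

/-- The two cells. -/
def InCell (g : G) : Prop :=
  (∃ a ∈ Ag S.u S.t, ∃ i : ℤ, g = a * S.t ^ i) ∨
    ∃ a ∈ Ag S.u S.t, ∃ i : ℤ, ∃ a' ∈ Ag S.u S.t, g = a * S.t ^ i * S.w * a'

theorem inCell_A {g x : G} (hx : x ∈ Ag S.u S.t) (h : S.InCell g) : S.InCell (x * g) := by
  rcases h with ⟨a, ha, i, rfl⟩ | ⟨a, ha, i, a', ha', rfl⟩
  · exact Or.inl ⟨x * a, mul_mem hx ha, i, by group⟩
  · exact Or.inr ⟨x * a, mul_mem hx ha, i, a', ha', by group⟩

theorem inCell_t {g : G} (l : ℤ) (h : S.InCell g) : S.InCell (S.t ^ l * g) := by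
  rcases h with ⟨a, ha, i, rfl⟩ | ⟨a, ha, i, a', ha', rfl⟩
  · exact Or.inl ⟨_, S.conj_A l ha, l + i, by rw [zpow_add]; group⟩
  · exact Or.inr ⟨_, S.conj_A l ha, l + i, a', ha', by rw [zpow_add]; group⟩

theorem inCell_w (hg : ∀ a b : F, Vld q a b → b ≠ 0 → S.Good a b) {g : G} (h : S.InCell g) :
    S.InCell (S.w * g) := by
  rcases h with ⟨a, ha, i, rfl⟩ | ⟨a, ha, i, a', ha', rfl⟩
  · rcases S.one_or_good hg ha with rfl | ⟨x1, hx1, j, x2, hx2, hne, hrel⟩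
    · exact Or.inr ⟨1, one_mem _, -(q : ℤ) * i, 1, one_mem _, by
        rw [one_mul, one_mul, mul_one, S.w_swap]⟩
    set c : ℤ := -(q : ℤ) * i
    set x2' := S.t ^ (-c) * x2 * (S.t ^ (-c))⁻¹
    have hne' : x2' ≠ 1 := fun e => hne (conj_eq_one_iff.1 e)
    obtain ⟨y1, hy1, l, y2, hy2, -, hrel2⟩ := (S.one_or_good hg (S.conj_A (-c) hx2)).resolve_left hne'
    have e : S.w * (a * S.t ^ i) = x1 * S.t ^ (j + (-(q : ℤ)) * c) * (S.w * x2' * S.w) := by
      calc S.w * (a * S.t ^ i) = S.w * a * S.w * (S.w * S.t ^ i) := by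
            rw [show S.w * a * S.w * (S.w * S.t ^ i) = S.w * a * (S.w * S.w) * S.t ^ i by group, S.wsq]
            group
        _ = x1 * S.t ^ j * S.w * x2 * (S.t ^ c * S.w) := by rw [hrel, S.w_swap]
        _ = x1 * S.t ^ j * (S.w * S.t ^ c) * x2' * S.w := by simp only [x2', zpow_neg]; group
        _ = _ := by rw [S.w_swap, zpow_add]; group
    rw [e, hrel2]
    exact Or.inr ⟨x1 * (S.t ^ (j + (-(q : ℤ)) * c) * y1 * (S.t ^ (j + (-(q : ℤ)) * c))⁻¹),
      mul_mem hx1 (S.conj_A _ hy1), j + (-(q : ℤ)) * c + l, y2, hy2, by rw [zpow_add S.t _ l]; group⟩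
  · rcases S.one_or_good hg ha with rfl | ⟨x1, hx1, j, x2, hx2, hne, hrel⟩
    · set c : ℤ := -(q : ℤ) * i
      refine Or.inl ⟨S.t ^ c * a' * (S.t ^ c)⁻¹, S.conj_A _ ha', c, ?_⟩
      calc S.w * (1 * S.t ^ i * S.w * a') = (S.w * S.t ^ i * S.w) * a' := by group
        _ = S.t ^ c * a' := by rw [S.w_pow]
        _ = _ := by group
    set c : ℤ := -(q : ℤ) * i
    refine Or.inr ⟨x1, hx1, j + (-(q : ℤ)) * c, S.t ^ (-c) * x2 * (S.t ^ (-c))⁻¹ * a',
      mul_mem (S.conj_A _ hx2) ha', ?_⟩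
    calc S.w * (a * S.t ^ i * S.w * a') = (S.w * a * S.w) * (S.w * S.t ^ i * S.w) * a' := by
          rw [show S.w * a * S.w * (S.w * S.t ^ i * S.w) * a' = S.w * a * (S.w * S.w) * S.t ^ i * S.w * a' by
            group, S.wsq]
          group
      _ = x1 * S.t ^ j * (S.w * S.t ^ c) * (S.t ^ (-c) * x2 * (S.t ^ (-c))⁻¹) * a' := by
          rw [hrel, S.w_pow, zpow_neg]; simp only [c, neg_mul]; group
      _ = _ := by rw [S.w_swap, zpow_add]; group

theorem inCell_all (hg : ∀ a b : F, Vld q a b → b ≠ 0 → S.Good a b) (g : G) : S.InCell g := by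
  have hmem : g ∈ Subgroup.closure ({S.u, S.t, S.w} : Set G) := S.top ▸ Subgroup.mem_top g
  suffices H : ∀ y, S.InCell y → S.InCell (g * y) by
    simpa using H 1 (Or.inl ⟨1, one_mem _, 0, by simp⟩)
  refine Subgroup.closure_induction_left (p := fun g _ => ∀ y, S.InCell y → S.InCell (g * y))
    (fun y hy => by rwa [one_mul]) ?_ ?_ hmem
  · rintro s (rfl | rfl | rfl) z - ih y hy <;> rw [mul_assoc]
    · exact S.inCell_A (u_mem _ _) (ih y hy)
    · simpa using S.inCell_t 1 (ih y hy)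
    · exact S.inCell_w hg (ih y hy)
  · rintro s (rfl | rfl | rfl) z - ih y hy <;> rw [mul_assoc]
    · exact S.inCell_A (inv_mem (u_mem _ _)) (ih y hy)
    · simpa using S.inCell_t (-1) (ih y hy)
    · rw [S.w_inv]; exact S.inCell_w hg (ih y hy)

/-- **The map to the model is an isomorphism.** -/
theorem π_bijective (hg : ∀ a b : F, Vld q a b → b ≠ 0 → S.Good a b) : Function.Bijective S.π := by
  refine ⟨(injective_iff_map_eq_one S.π).2 fun g hg1 => ?_, MonoidHom.range_eq_top.1 ?_⟩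
  · rcases S.inCell_all hg g with ⟨a, ha, i, rfl⟩ | ⟨a, ha, i, a', ha', rfl⟩
    · exact S.inj _ (mul_mem (S.A_le ha) (S.t_pow_mem i)) hg1
    · obtain ⟨z, ez⟩ := S.πA a ha
      obtain ⟨z', ez'⟩ := S.πA a' ha'
      rw [map_mul, map_mul, map_mul, ez, ez', S.πw, S.π_t_zpow] at hg1
      have h0 := (hMat_cell_some hF z z' (S.α ^ i)).1
      rw [hg1, hMat_one] at h0
      rw [Matrix.one_apply_ne (by decide)] at h0
      exact absurd h0.symm (inv_ne_zero (pow_ne_zero q (S.α ^ i).ne_zero))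
  · refine closure_eq_top hF (fun a b h => ?_) (fun k => ?_) ⟨S.w, S.πw⟩
    · obtain ⟨x, -, e⟩ := S.surA ⟨(a, b), h⟩
      exact ⟨x, e⟩
    · obtain ⟨i, rfl⟩ := S.αgen k
      exact ⟨S.t ^ i, by rw [map_pow, S.πt, ← map_pow]⟩

end Setup

end CfsgLib.SU3Pres
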