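import Cfsg.Agent.SU3Pres.Words
import Cfsg.Agent.SU3Pres.Cells

/-!
The short presentation of `SU₃(q)`.
-/

set_option autoImplicit false
set_option linter.unusedSectionVars false
set_option linter.style.haveILetI false

namespace CfsgLib.SU3Pres

open Polynomial CfsgLib.Forms CfsgLib.Unitary CfsgLib.SL2Pres CfsgLib.BPres

variable {F : Type*} [Field F] [Finite F] {q : ℕ} {hF : Nat.card F = q ^ 2}

namespace Data

variable (D : Data hF) {p : ℕ} [Fact p.Prime] [Algebra (ZMod p) F] {e : ℕ} (hq : q = p ^ e)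

theorem lift_cjU (i : ℤ) : FreeGroup.lift D.f0 (cj oU oT i) = cj D.U0 D.T0 i := by
  rw [map_cj, lift_oU, lift_oT]

theorem lift_f {G : Type} [Group G] (f : Fin 3 → G) (i : ℤ) :
    FreeGroup.lift f (cj oU oT i) = cj (f 0) (f 1) i := by
  rw [map_cj, oU, oT, FreeGroup.lift_apply_of, FreeGroup.lift_apply_of]

theorem lift_fU {G : Type} [Group G] (f : Fin 3 → G) : FreeGroup.lift f oU = f 0 := by
  rw [oU, FreeGroup.lift_apply_of]

theorem lift_fT {G : Type} [Group G] (f : Fin 3 → G) : FreeGroup.lift f oT = f 1 := by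
  rw [oT, FreeGroup.lift_apply_of]

theorem lift_fW {G : Type} [Group G] (f : Fin 3 → G) : FreeGroup.lift f oW = f 2 := by
  rw [oW, FreeGroup.lift_apply_of]

theorem lift_fZ {G : Type} [Group G] (f : Fin 3 → G) :
    FreeGroup.lift f (zc oU oT) = zc (f 0) (f 1) := by
  rw [map_zc, lift_fU, lift_fT]

theorem lift_Z : FreeGroup.lift D.f0 (zc oU oT) = zc D.U0 D.T0 := by rw [map_zc, lift_oU, lift_oT]

include hq

theorem natDegree_minpoly_le (hF : Nat.card F = q ^ 2) (x : F) : (minpoly (ZMod p) x).natDegree ≤ 2 * e := by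
  refine (minpoly.natDegree_le x).trans_eq ?_
  have h := Module.natCard_eq_pow_finrank (K := ZMod p) (V := F)
  rw [Nat.card_zmod, hF, hq, ← pow_mul, mul_comm] at h
  exact (Nat.pow_right_injective (Fact.out : p.Prime).two_le h).symm

/-- The relators giving commutation. -/
theorem exists_extra : ∃ E : List (FreeGroup (Fin 3)), E.length ≤ (if q = 5 ∨ q = 8 then 10 else 4) ∧
    (∀ r ∈ E, FreeGroup.lift D.f0 r = 1) ∧ ∀ (G : Type) [Group G] (f : Fin 3 → G) (N : ℕ), 0 < N →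
      f 1 ^ N = 1 →
      (∀ i j, Commute (cj (zc (f 0) (f 1)) (f 1) i) (cj (zc (f 0) (f 1)) (f 1) j)) →
      (∀ b : ℕ, D.g ^ b = 1 → f 1 ^ b * zc (f 0) (f 1) * (f 1 ^ b)⁻¹ = zc (f 0) (f 1)) →
      wd (f 0) (f 1) (minpoly (ZMod p) D.ll) ∈ Zg (f 0) (f 1) →
      (∀ r ∈ E, FreeGroup.lift f r = 1) →
      (∀ i, Commute (cj (f 0) (f 1) i) (zc (f 0) (f 1))) ∧
        ∀ i j, cj (f 0) (f 1) i * cj (f 0) (f 1) j * (cj (f 0) (f 1) i)⁻¹ * (cj (f 0) (f 1) j)⁻¹ ∈
          Zg (f 0) (f 1) := by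
  classical
  have h3 := D.h3
  by_cases hsp : q = 5 ∨ q = 8
  · rw [if_pos hsp]
    set m := minpoly (ZMod p) D.ll
    set d := m.natDegree with hd
    have hint : IsIntegral (ZMod p) D.ll := IsIntegral.of_finite _ _
    have hd0 : 0 < d := minpoly.natDegree_pos hint
    have he : e ≤ 3 := by
      by_contra h
      have h1 : 2 ^ 4 ≤ p ^ e := le_trans (Nat.pow_le_pow_left (Fact.out : p.Prime).two_le 4)
        (Nat.pow_le_pow_right (Fact.out : p.Prime).pos (by omega))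
      omega
    have hd6 : d ≤ 6 := (natDegree_minpoly_le hq hF D.ll).trans (by omega)
    have hR : ∀ j : ℕ, ∃ r : FreeGroup (Fin 3), FreeGroup.lift D.f0 r = 1 ∧
        ∀ (G : Type) [Group G] (f : Fin 3 → G), FreeGroup.lift f r = 1 →
          f 0 * cj (f 0) (f 1) j * (f 0)⁻¹ * (cj (f 0) (f 1) j)⁻¹ ∈ Zg (f 0) (f 1) := by
      intro j
      obtain ⟨h1, e1⟩ := D.cj_U0 j
      obtain ⟨hv, ec⟩ := comm_uel D.hr h1
      obtain ⟨r, hr, hr'⟩ := D.exists_rel (oU * cj oU oT j * oU⁻¹ * (cj oU oT j)⁻¹) (h := hv)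
        (by rw [map_mul, map_mul, map_mul, map_inv, map_inv, lift_cjU, lift_oU, e1, U0, ec])
      refine ⟨r, hr, fun G _ f hf => ?_⟩
      have := hr' G f hf
      rwa [map_mul, map_mul, map_mul, map_inv, map_inv, lift_f, lift_fU] at this
    choose R hR1 hR2 using hR
    refine ⟨(List.range d).map (fun i : ℕ => cj oU oT i * zc oU oT * (cj oU oT i)⁻¹ * (zc oU oT)⁻¹) ++
      (List.range (d - 2)).map (fun j : ℕ => R (j + 2)), ?_, ?_, ?_⟩
    · rw [List.length_append, List.length_map, List.length_map, List.length_range, List.length_range]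
      omega
    · intro r hr
      rcases List.mem_append.1 hr with hr | hr <;> obtain ⟨i, -, rfl⟩ := List.mem_map.1 hr
      · obtain ⟨h1, e1⟩ := D.cj_U0 i
        rw [map_mul, map_mul, map_mul, map_inv, map_inv, lift_cjU, lift_Z, e1, zc_eq,
          (commute_centre h1 D.vld_c0).eq, mul_inv_cancel_right, mul_inv_cancel]
      · exact hR1 _
    · intro G _ f N hN hper hzc _ hum hf
      refine facts_small hN hper hzc hd0 (fun i hi => ?_) (fun j hj => ?_) hd.symm (minpoly.monic hint) hum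
      · have := hf _ (List.mem_append_left _ (List.mem_map.2 ⟨i, List.mem_range.2 hi, rfl⟩))
        rw [map_mul, map_mul, map_mul, map_inv, map_inv, lift_f, lift_fZ, mul_inv_eq_one,
          mul_inv_eq_iff_eq_mul] at this
        exact this
      · rcases j with - | - | j
        · simp [cj_zero]
        · exact Subgroup.subset_closure ⟨0, by rw [cj_zero]; rfl⟩
        · exact hR2 _ G f (hf _ (List.mem_append_right _ (List.mem_map.2
            ⟨j, List.mem_range.2 (by omega), rfl⟩)))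
  rw [if_neg hsp]
  rw [not_or] at hsp
  set s := lam q ((D.α : F) ^ (q - 1)) with hs
  have h0 : 1 + s ≠ 0 := by
    intro h
    have hs2 : s ^ 2 = 1 := by linear_combination (s - 1) * h
    rw [hs, lam_norm_one hF D.hord, ← pow_mul] at hs2
    have h1 : D.α ^ ((q - 1) * 3 * 2) = 1 := Units.ext (by
      rw [Units.val_pow_eq_pow_val, Units.val_one, hs2])
    have hd := orderOf_dvd_of_pow_eq_one h1
    rw [D.hord, mul_comm (q + 1), mul_assoc] at hd
    have h6 : q + 1 ∣ 6 := (Nat.mul_dvd_mul_iff_left (show 0 < q - 1 by omega)).1 hd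
    have := Nat.le_of_dvd (by norm_num) h6
    have key : ∀ n, 4 ≤ n → n ≤ 6 → n ∣ 6 → n = 6 := fun n h1 h2 h3 => by
      interval_cases n <;> first | omega | norm_num at h3
    have := key _ (by omega) this h6
    omega
  obtain ⟨k, hk⟩ := exists_lam_eq_one_add hF D.hord h0
  obtain ⟨a, rfl⟩ := D.hgen k
  rw [Units.val_pow_eq_pow_val, lam_pow, ← hs] at hk
  obtain ⟨P, hP⟩ : ∃ P : (ZMod p)[X], aeval s P = D.ll := by
    have : D.ll ∈ Algebra.adjoin (ZMod p) {s} :=
      (adjoin_norm_one hF hq D.hord (by omega) hsp.1 hsp.2).symm ▸ Algebra.mem_top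
    rw [Algebra.adjoin_singleton_eq_range_aeval] at this
    exact this
  obtain ⟨hb, eb⟩ := D.cj_U0 (q - 1)
  obtain ⟨hv1, ec⟩ := comm_uel D.hr hb
  obtain ⟨ha, ea⟩ := D.cj_U0 a
  obtain ⟨c2, hv2, eq2⟩ := quot_uel ha (vld_mul hF D.hr hb)
    (show D.ll ^ a = 1 + D.ll ^ (q - 1) by
      rw [show D.ll ^ (q - 1) = s from D.ll_pow (q - 1)]; exact hk)
  obtain ⟨h1, e1⟩ := D.cj_U0 1
  obtain ⟨b', h', ew⟩ := wd_uel hF (p := p) (D.α ^ (q - 1)) D.hr P
  obtain ⟨c3, hv3, eq3⟩ := quot_uel h1 h' (by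
    rw [Units.val_pow_eq_pow_val, ← hs, hP, mul_one, pow_one])
  obtain ⟨r1, hr1, hr1'⟩ := D.exists_rel
    (oU * cj oU oT (q - 1 : ℕ) * oU⁻¹ * (cj oU oT (q - 1 : ℕ))⁻¹) (h := hv1)
    (by rw [map_mul, map_mul, map_mul, map_inv, map_inv, lift_cjU, lift_oU, eb, U0, ec])
  obtain ⟨r2, hr2, hr2'⟩ := D.exists_rel (cj oU oT a * (oU * cj oU oT (q - 1 : ℕ))⁻¹) (h := hv2)
    (by rw [map_mul, map_inv, map_mul, lift_cjU, lift_cjU, lift_oU, ea, eb, U0, uel_mul hF, eq2])
  obtain ⟨r3, hr3, hr3'⟩ := D.exists_rel (cj oU oT 1 * (wd oU (oT ^ (q - 1)) P)⁻¹) (h := hv3)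
    (by
      rw [map_mul, map_inv, map_wd, map_pow, lift_cjU, lift_oU, lift_oT, T0, ← map_pow, U0, ew, ← eq3]
      rw [Nat.cast_one] at e1
      rw [← U0, ← T0, e1])
  refine ⟨[oU * zc oU oT * oU⁻¹ * (zc oU oT)⁻¹, r1, r2, r3], by simp, ?_, ?_⟩
  · simp only [List.forall_mem_cons]
    refine ⟨?_, hr1, hr2, hr3, fun x hx => absurd hx List.not_mem_nil⟩
    rw [map_mul, map_mul, map_mul, map_inv, map_inv, lift_oU, lift_Z, zc_eq, U0,
      (commute_centre D.hr D.vld_c0).eq, mul_inv_cancel_right, mul_inv_cancel]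
  · intro G _ f N hN hper hzc hzb hum hf
    simp only [List.forall_mem_cons] at hf
    obtain ⟨f1, f2, f3, f4, -⟩ := hf
    rw [map_mul, map_mul, map_mul, map_inv, map_inv, lift_fU, lift_fZ, mul_inv_eq_one,
      mul_inv_eq_iff_eq_mul] at f1
    have g2 := hr1' G f f2
    have g3 := hr2' G f f3
    have g4 := hr3' G f f4
    rw [map_mul, map_mul, map_mul, map_inv, map_inv, lift_f, lift_fU] at g2
    rw [map_mul, map_inv, map_mul, lift_f, lift_f, lift_fU] at g3
    rw [map_mul, map_inv, map_wd, map_pow, lift_f, lift_fU, lift_fT] at g4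
    exact facts_general hN hper hzc (hzb _ D.g_pow_sub) f1 g2 g3 g4

/-- The relators of the centre and the Borel subgroup. -/
theorem exists_base : ∃ B : List (FreeGroup (Fin 3)), B.length ≤ 9 ∧
    (∀ r ∈ B, FreeGroup.lift D.f0 r = 1) ∧ ∀ (G : Type) [Group G] (f : Fin 3 → G),
      (∀ r ∈ B, FreeGroup.lift f r = 1) →
      f 2 * f 2 = 1 ∧ f 2 * f 1 * (f 2)⁻¹ = (f 1 ^ q)⁻¹ ∧ f 1 ^ ((q + 1) * (q - 1)) = 1 ∧
      (∀ i j, Commute (cj (zc (f 0) (f 1)) (f 1) i) (cj (zc (f 0) (f 1)) (f 1) j)) ∧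
      zc (f 0) (f 1) ^ p = 1 ∧ wd (zc (f 0) (f 1)) (f 1) (minpoly (ZMod p) D.g) = 1 ∧
      f 0 ^ p ∈ Zg (f 0) (f 1) ∧ wd (f 0) (f 1) (minpoly (ZMod p) D.ll) ∈ Zg (f 0) (f 1) := by
  classical
  have h3 := D.h3
  haveI : CharP F p := charP_of_injective_algebraMap (algebraMap (ZMod p) F).injective p
  obtain ⟨hz1, ez1⟩ := D.cj_zc 1
  rw [Nat.cast_one] at ez1
  obtain ⟨X6, hX6, hX6'⟩ : ∃ X : FreeGroup (Fin 3), FreeGroup.lift D.f0 X = 1 ∧
      ∀ (G : Type) [Group G] (f : Fin 3 → G) (N : ℕ), 0 < N → f 1 ^ N = 1 →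
      Commute (zc (f 0) (f 1)) (cj (zc (f 0) (f 1)) (f 1) 1) → FreeGroup.lift f X = 1 →
      ∀ i j, Commute (cj (zc (f 0) (f 1)) (f 1) i) (cj (zc (f 0) (f 1)) (f 1) j) := by
    by_cases hg1 : 1 + D.g = 0
    · refine ⟨zc oU oT * cj (zc oU oT) oT 1, ?_, fun G _ f N hN hper _ hX i j => ?_⟩
      · rw [map_mul, map_cj, lift_Z, lift_oT, ez1, zc_eq, uel_mul hF, ← uel_zero hF]
        exact uel_congr hF _ _ (add_zero 0) (by linear_combination D.c0 * hg1)
      · rw [map_mul, map_cj, lift_fZ, lift_fT] at hX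
        have hz : ∀ i, cj (zc (f 0) (f 1)) (f 1) i ∈ Subgroup.zpowers (zc (f 0) (f 1)) :=
          cj_mem_of_stable hN hper (Subgroup.mem_zpowers _) fun a ha => by
            obtain ⟨n, rfl⟩ := Subgroup.mem_zpowers_iff.1 ha
            rw [← conj_zpow]
            refine zpow_mem ?_ n
            have := eq_inv_of_mul_eq_one_right hX
            rw [cj, zpow_one] at this
            rw [this]
            exact inv_mem (Subgroup.mem_zpowers _)
        obtain ⟨n, hn⟩ := Subgroup.mem_zpowers_iff.1 (hz i)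
        obtain ⟨n', hn'⟩ := Subgroup.mem_zpowers_iff.1 (hz j)
        rw [← hn, ← hn']
        exact Commute.zpow_zpow_self _ _ _
    · have hfix : (1 + D.g) ^ q = 1 + D.g := by rw [add_pow_q hF, one_pow, g_fix]
      obtain ⟨a, ha⟩ := exists_pow_of_fixed hF D.hord D.hgen hfix hg1
      obtain ⟨hza, eza⟩ := D.cj_zc a
      refine ⟨cj (zc oU oT) oT a * (zc oU oT * cj (zc oU oT) oT 1)⁻¹, ?_,
        fun G _ f N _ _ hc hX i j => ?_⟩
      · rw [map_mul, map_inv, map_mul, map_cj, map_cj, lift_Z, lift_oT, mul_inv_eq_one, ez1, eza, zc_eq,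
          uel_mul hF]
        refine uel_congr hF _ _ (add_zero 0).symm ?_
        rw [show D.g ^ a = 1 + D.g from ha.symm]
        ring
      · rw [map_mul, map_inv, map_mul, map_cj, map_cj, lift_fZ, lift_fT, mul_inv_eq_one] at hX
        have := commute_cj (commute_multiples (b := 1) hc hX) i j
        rwa [mul_one, mul_one] at this
  obtain ⟨b8, h8, e8⟩ := wd_uel hF (p := p) D.α D.hr (minpoly (ZMod p) D.ll)
  have h80 : Vld q (0 : F) b8 := by
    rwa [show lam q (D.α : F) = D.ll from rfl, minpoly.aeval, zero_mul] at h8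
  obtain ⟨r8, hr8, hr8'⟩ := D.exists_rel (wd oU oT (minpoly (ZMod p) D.ll)) (h := h80)
    (by
      rw [map_wd, lift_oU, lift_oT, U0, T0, e8]
      exact uel_congr hF _ _ (by rw [show lam q (D.α : F) = D.ll from rfl, minpoly.aeval, zero_mul]) rfl)
  obtain ⟨b9, h9, e9⟩ := uel_pow hF D.hr p
  have h90 : Vld q (0 : F) b9 := by rwa [CharP.cast_eq_zero, zero_mul] at h9
  obtain ⟨r9, hr9, hr9'⟩ := D.exists_rel (oU ^ p) (h := h90) (by
    rw [map_pow, lift_oU, U0, e9]
    exact uel_congr hF _ _ (by rw [CharP.cast_eq_zero, zero_mul]) rfl)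
  obtain ⟨h7, e7⟩ := wd_uel_centre hF (p := p) D.α D.vld_c0 (minpoly (ZMod p) D.g)
  obtain ⟨h4, e4⟩ := uel_centre_pow hF D.vld_c0 p
  refine ⟨[oT ^ ((q + 1) * (q - 1)), oW * oW, oW * oT * oW⁻¹ * oT ^ q, zc oU oT ^ p,
    zc oU oT * cj (zc oU oT) oT 1 * (zc oU oT)⁻¹ * (cj (zc oU oT) oT 1)⁻¹, X6,
    wd (zc oU oT) oT (minpoly (ZMod p) D.g), r8, r9], by simp, ?_, ?_⟩
  · simp only [List.forall_mem_cons]
    refine ⟨?_, ?_, ?_, ?_, ?_, hX6, ?_, hr8, hr9, fun x hx => absurd hx List.not_mem_nil⟩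
    · rw [map_pow, lift_oT, T0, ← map_pow, ← D.hord, pow_orderOf_eq_one, map_one]
    · rw [map_mul, lift_oW, wel_sq]
    · rw [map_mul, map_mul, map_mul, map_inv, map_pow, lift_oW, lift_oT, T0, wel_conj, map_inv, ← map_pow,
        inv_mul_cancel]
    · rw [map_pow, lift_Z, zc_eq, e4, ← uel_zero hF]
      exact uel_congr hF _ _ rfl (by rw [CharP.cast_eq_zero, zero_mul])
    · rw [map_mul, map_mul, map_mul, map_inv, map_inv, map_cj, lift_Z, lift_oT, ez1, zc_eq,
        (commute_centre D.vld_c0 hz1).eq, mul_inv_cancel_right, mul_inv_cancel]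
    · rw [map_wd, lift_Z, lift_oT, zc_eq, T0, e7, ← uel_zero hF]
      exact uel_congr hF _ _ rfl (by rw [show (D.α : F) * (D.α : F) ^ q = D.g from rfl, minpoly.aeval, zero_mul])
  · intro G _ f hf
    simp only [List.forall_mem_cons] at hf
    obtain ⟨f1, f2, f3, f4, f5, f6, f7, f8, f9, -⟩ := hf
    rw [map_pow, lift_fT] at f1
    rw [map_mul, lift_fW] at f2
    rw [map_mul, map_mul, map_mul, map_inv, map_pow, lift_fW, lift_fT] at f3
    rw [map_pow, lift_fZ] at f4
    rw [map_mul, map_mul, map_mul, map_inv, map_inv, map_cj, lift_fZ, lift_fT, mul_inv_eq_one,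
      mul_inv_eq_iff_eq_mul] at f5
    rw [map_wd, lift_fZ, lift_fT] at f7
    have g8 := hr8' G f f8
    have g9 := hr9' G f f9
    rw [map_wd, lift_fU, lift_fT] at g8
    rw [map_pow, lift_fU] at g9
    exact ⟨f2, eq_inv_of_mul_eq_one_left f3, f1,
      hX6' G f _ (Nat.mul_pos (by omega) (by omega)) f1 f5 f6, f4, f7, g9, g8⟩

/-- The presented group is the model. -/
theorem exists_pres : ∃ R : List (FreeGroup (Fin 3)),
    R.length ≤ (if q = 5 ∨ q = 8 then 23 else 17) ∧ IsPres R D.f0 := by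
  classical
  haveI : CharP F p := charP_of_injective_algebraMap (algebraMap (ZMod p) F).injective p
  have h3 := D.h3
  obtain ⟨B, hBl, hB0, hB⟩ := D.exists_base hq
  obtain ⟨E, hEl, hE0, hE⟩ := D.exists_extra hq
  set ω0 := (D.α : F) ^ (q - 1) with hω
  have hωn : ω0 * ω0 ^ q = 1 := by
    rw [hω, ← pow_succ', ← pow_mul, ← Units.val_pow_eq_pow_val, mul_comm, ← D.hord, pow_orderOf_eq_one,
      Units.val_one]
  have hω1 : ω0 ≠ 1 := fun h => by
    have h1 : D.α ^ (q - 1) = 1 := Units.ext (by rw [Units.val_pow_eq_pow_val, Units.val_one]; exact h)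
    have := Nat.le_of_dvd (by omega) (orderOf_dvd_of_pow_eq_one h1)
    rw [D.hord] at this
    have h4 : 4 * (q - 1) ≤ (q + 1) * (q - 1) := Nat.mul_le_mul_right _ (by omega)
    omega
  set bb : ℕ → F := fun i => (ω0 - 1)⁻¹ * ((D.α : F) ^ i * ((D.α : F) ^ i) ^ q)
  have hbb : ∀ i, Vld q ((D.α : F) ^ i) (bb i) := fun i => by
    have h1 := Setup.theta_trace (hF := hF) hωn hω1
    unfold Vld
    simp only [bb]
    rw [mul_pow (ω0 - 1)⁻¹, mul_pow ((D.α : F) ^ i), pow_q_q hF]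
    linear_combination ((D.α : F) ^ i * ((D.α : F) ^ i) ^ q) * h1
  have hbb0 : ∀ i, bb i ≠ 0 := fun i => vld_b_ne_zero hF (hbb i) (pow_ne_zero i D.α.ne_zero)
  obtain ⟨rz, hrz, hrz'⟩ := D.exists_st hq D.vld_c0 D.c0_ne
  have hst := fun i => D.exists_st hq (hbb i) (hbb0 i)
  choose rs hrs hrs' using hst
  set R := B ++ E ++ ([rz] ++ (List.range 3).map rs)
  have hR0 : ∀ r ∈ R, FreeGroup.lift D.f0 r = 1 := by
    intro r hr
    rcases List.mem_append.1 hr with hr | hr
    · rcases List.mem_append.1 hr with hr | hr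
      · exact hB0 r hr
      · exact hE0 r hr
    · rcases List.mem_append.1 hr with hr | hr
      · rw [List.mem_singleton.1 hr]; exact hrz
      · obtain ⟨i, -, rfl⟩ := List.mem_map.1 hr; exact hrs i
  refine ⟨R, ?_, ?_⟩
  · simp only [R, List.length_append, List.length_map, List.length_range, List.length_singleton]
    split_ifs at hEl ⊢ <;> omega
  set S : Set (FreeGroup (Fin 3)) := {r | r ∈ R}
  let π : PresentedGroup S →* HU F q := PresentedGroup.toGroup (f := D.f0) fun r hr => hR0 r hr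
  set f : Fin 3 → PresentedGroup S := PresentedGroup.of with hf
  have hπ : ∀ i, π (f i) = D.f0 i := fun i => PresentedGroup.toGroup.of _
  have hrel : ∀ r ∈ R, FreeGroup.lift f r = 1 := fun r hr => by
    have : FreeGroup.lift f = PresentedGroup.mk S :=
      FreeGroup.ext_hom _ _ fun i => by rw [FreeGroup.lift_apply_of]; rfl
    rw [this]
    exact PresentedGroup.one_of_mem hr
  obtain ⟨hww, hwt, hper, hzc, hzp, hzm, hup, hum⟩ :=
    hB _ f fun r hr => hrel r (List.mem_append_left _ (List.mem_append_left _ hr))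
  set N := (q + 1) * (q - 1) with hN'
  have hN : 0 < N := Nat.mul_pos (by omega) (by omega)
  obtain ⟨hfixz, K, _, _, ι, hK, hZ⟩ := exists_iota_Z (F := F) (p := p) D.g_fix (card_FixQ hF)
    (add_pow_q hF) (fun c => by rw [← map_pow, hq, ZMod.pow_card_pow]) hN hper hzp hzc hzm
  obtain ⟨huz, huu⟩ := hE _ f N hN hper hzc hfixz hum
    fun r hr => hrel r (List.mem_append_left _ (List.mem_append_right _ hr))
  obtain ⟨hfin, hcard, -⟩ := borel_bound (F := F) (adjoin_lam hF hq D.hord D.h3) hN hper huz hup huu hum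
    (fun y : K => ι (Multiplicative.ofAdd y)) fun x hx => by
      obtain ⟨y, hy⟩ := hZ hx
      exact ⟨Multiplicative.toAdd y, hy⟩
  have hπu : π (f 0) = D.U0 := hπ 0
  have hπt : π (f 1) = D.T0 := hπ 1
  have hsur : ∀ z : UP F q, ∃ x ∈ Ag (f 0) (f 1), π x = uP hF z := fun z => by
    have := D.uP_mem_Ag hq z
    rw [← D.map_Ag π hπu hπt] at this
    obtain ⟨x, hx, e⟩ := this
    exact ⟨x, hx, e⟩
  have hmem : ∀ x ∈ Ag (f 0) (f 1), ∃ z : UP F q, π x = uP hF z := fun x hx => by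
    have : π x ∈ Ag D.U0 D.T0 := D.map_Ag π hπu hπt ▸ Subgroup.mem_map_of_mem π hx
    obtain ⟨z, hz⟩ := D.Ag_le_UH this
    exact ⟨z, hz.symm⟩
  have ht : f 1 ∈ Subgroup.closure ({f 0, f 1} : Set (PresentedGroup S)) :=
    Subgroup.subset_closure (Set.mem_insert_of_mem _ (Set.mem_singleton _))
  have hu : f 0 ∈ Subgroup.closure ({f 0, f 1} : Set (PresentedGroup S)) :=
    Subgroup.subset_closure (Set.mem_insert _ _)
  have hA : Ag (f 0) (f 1) ≤ Subgroup.closure ({f 0, f 1} : Set (PresentedGroup S)) := by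
    rw [Ag, Subgroup.closure_le]
    rintro _ ⟨i, rfl⟩
    exact mul_mem (mul_mem (zpow_mem ht i) hu) (inv_mem (zpow_mem ht i))
  have hlift : ∀ y : UP F q × Fˣ, ∃ x : Subgroup.closure ({f 0, f 1} : Set (PresentedGroup S)),
      π x.1 = uP hF y.1 * tel hF y.2 := fun y => by
    obtain ⟨x, hx, e⟩ := hsur y.1
    obtain ⟨i, hi⟩ := D.hgen y.2
    exact ⟨⟨x * f 1 ^ i, mul_mem (hA hx) (pow_mem ht i)⟩, by
      rw [map_mul, map_pow, e, hπt, T0, ← map_pow, hi]⟩
  choose σ hσ using hlift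
  have hinj' : ∀ {y y' : UP F q × Fˣ}, π (σ y).1 = π (σ y').1 → y = y' := fun {y y'} e => by
    rw [hσ, hσ] at e
    obtain ⟨h1, h2⟩ := borel_inj hF e
    exact Prod.ext h1 h2
  have hσi : Function.Injective σ := fun y y' e => hinj' (by rw [e])
  haveI := hfin
  have hbij : Function.Bijective σ := by
    refine (Nat.bijective_iff_injective_and_card _).2 ⟨hσi, le_antisymm (Nat.card_le_card_of_injective σ hσi) ?_⟩
    refine hcard.trans ?_
    rw [Nat.card_prod, card_UP hF, card_units_eq hF, hF, hN']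
    exact Nat.mul_le_mul_right _ (le_of_le_of_eq (Nat.mul_le_mul_left (q ^ 2) hK) (by ring))
  have hinj : ∀ x ∈ Subgroup.closure ({f 0, f 1} : Set (PresentedGroup S)), π x = 1 → x = 1 := by
    intro x hx e
    obtain ⟨y, hy⟩ := hbij.2 ⟨x, hx⟩
    obtain ⟨y', hy'⟩ := hbij.2 1
    have := hinj' (y := y) (y' := y') (by
      rw [show (σ y).1 = x from congrArg Subtype.val hy, show (σ y').1 = 1 from congrArg Subtype.val hy', e,
        map_one])
    rw [this, hy'] at hy
    exact (congrArg Subtype.val hy).symm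
  have htop : Subgroup.closure ({f 0, f 1, f 2} : Set (PresentedGroup S)) = ⊤ := by
    rw [eq_top_iff, ← PresentedGroup.closure_range_of S, Subgroup.closure_le]
    rintro _ ⟨i, rfl⟩
    refine Subgroup.subset_closure ?_
    fin_cases i <;> simp [hf]
  let T : Setup hF (PresentedGroup S) :=
    { π := π, u := f 0, t := f 1, w := f 2, α := D.α, αgen := D.hgen, πt := hπt, πw := hπ 2, wsq := hww,
      wt := hwt, inj := hinj, πA := hmem, surA := hsur, top := htop }
  have hgood : ∀ (a b : F) (h : Vld q a b), b ≠ 0 → T.Good a b := by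
    intro a b h hb
    refine T.good_all D.c0_ne D.vld_c0 ?_ ?_ h hb
    · obtain ⟨x, x1, x2, z1, z2, j, h1, h2, h3, e, e1, e2, hr⟩ :=
        hrz' _ f π hπ (hrel _ (List.mem_append_right _ (List.mem_append_left _ (List.mem_singleton_self _))))
      exact T.good_of_rel h1 h2 h3 e e1 e2 hr
    · intro i hi
      obtain ⟨x, x1, x2, z1, z2, j, h1, h2, h3, e, e1, e2, hr⟩ :=
        hrs' i _ f π hπ (hrel _ (List.mem_append_right _ (List.mem_append_right _
          (List.mem_map.2 ⟨i, List.mem_range.2 hi, rfl⟩))))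
      exact T.good_of_rel h1 h2 h3 e e1 e2 hr
  have hpb : Function.Bijective π := T.π_bijective hgood
  refine ⟨hR0, ?_, ?_⟩
  · rw [eq_top_iff, ← MonoidHom.range_eq_top.2 hpb.2, MonoidHom.range_eq_map,
      ← PresentedGroup.closure_range_of S, MonoidHom.map_closure, Subgroup.closure_le]
    rintro _ ⟨_, ⟨i, rfl⟩, rfl⟩
    exact Subgroup.subset_closure ⟨i, (hπ i).symm⟩
  · intro G _ f' hf'
    let ψ : PresentedGroup S →* G := PresentedGroup.toGroup (f := f') fun r hr => hf' r hr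
    refine ⟨ψ.comp (MulEquiv.ofBijective π hpb).symm.toMonoidHom, fun i => ?_⟩
    rw [MonoidHom.comp_apply, show (MulEquiv.ofBijective π hpb).symm.toMonoidHom (D.f0 i) = f i from
      (MulEquiv.symm_apply_eq _).2 (hπ i).symm]
    exact PresentedGroup.toGroup.of _

end Data

theorem exists_charP_alg (hF : Nat.card F = q ^ 2) :
    ∃ (p e : ℕ) (_ : Fact p.Prime) (_ : Algebra (ZMod p) F), q = p ^ e := by
  obtain ⟨p, k, hcp, hp, hqk⟩ := exists_charP_pow hF
  exact ⟨p, k, ⟨hp⟩, ZMod.algebra F p, hqk⟩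

/-- **A short presentation of `SU₃(q)`.** -/
theorem hasPresN_HU (hF : Nat.card F = q ^ 2) (h3 : 3 ≤ q) :
    HasPresN (HU F q) 3 (if q = 5 ∨ q = 8 then 23 else 17) := by
  obtain ⟨D⟩ := exists_data hF h3
  obtain ⟨p, e, hp, halg, hq⟩ := exists_charP_alg hF
  obtain ⟨R, hR, hP⟩ := D.exists_pres hq
  exact ⟨R, D.f0, hR, hP⟩

theorem hasPresN_SU3 (hF : Nat.card F = q ^ 2) (h3 : 3 ≤ q) :
    HasPresN (Cfsg.SU 3 F q) 3 (if q = 5 ∨ q = 8 then 23 else 17) := by
  obtain ⟨e⟩ := nonempty_equiv hF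
  exact (hasPresN_HU hF h3).congr e

theorem center_zpowers (hF : Nat.card F = q ^ 2) :
    ∃ z, Subgroup.center (Cfsg.SU 3 F q) = Subgroup.zpowers z := by
  have h := card_center_SU hF (n := 3) (by norm_num)
  have hc : IsCyclic (Subgroup.center (Cfsg.SU 3 F q)) := by
    rcases (Nat.dvd_prime Nat.prime_three).1 (h ▸ Nat.gcd_dvd_left 3 (q + 1) :
        Nat.card (Subgroup.center (Cfsg.SU 3 F q)) ∣ 3) with h1 | h1
    · haveI : Subsingleton (Subgroup.center (Cfsg.SU 3 F q)) := (Nat.card_eq_one_iff_unique.1 h1).1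
      infer_instance
    · haveI : Fact (Nat.Prime 3) := ⟨Nat.prime_three⟩
      exact isCyclic_of_prime_card h1
  exact ⟨_, (Subgroup.isCyclic_iff_exists_zpowers_eq_top _).1 hc |>.choose_spec.symm⟩

theorem hasPresN_PSU3 (hF : Nat.card F = q ^ 2) (h3 : 3 ≤ q) :
    HasPresN (Cfsg.PSU 3 F q) 3 ((if q = 5 ∨ q = 8 then 23 else 17) + 1) := by
  obtain ⟨z, hz⟩ := center_zpowers (F := F) hF
  exact (hasPresN_SU3 hF h3).quotient _ z hz

end CfsgLib.SU3Pres
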