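import Cfsg.Agent.SU3Pres.Count
import Cfsg.Agent.SL2Pres.Param

/-!
Field parameters and the values of the words in the model.
-/

set_option autoImplicit false
set_option linter.unusedSectionVars false
set_option linter.style.haveILetI false

namespace CfsgLib.SU3Pres

open Polynomial CfsgLib.Forms CfsgLib.Unitary CfsgLib.SL2Pres

variable {F : Type*} [Field F] [Finite F] {q : ℕ} (hF : Nat.card F = q ^ 2)

include hF

theorem exists_gen_unit : ∃ α : Fˣ, orderOf α = (q + 1) * (q - 1) ∧ ∀ k : Fˣ, ∃ i : ℕ, α ^ i = k := by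
  obtain ⟨α, hα⟩ := IsCyclic.exists_monoid_generator (α := Fˣ)
  have hk : ∀ k : Fˣ, ∃ i : ℕ, α ^ i = k := fun k => (Submonoid.mem_powers_iff _ _).1 (hα k)
  refine ⟨α, ?_, hk⟩
  rw [← card_units_eq hF]
  refine orderOf_eq_card_of_forall_mem_zpowers fun k => ?_
  obtain ⟨i, rfl⟩ := hk k
  exact ⟨i, zpow_natCast α i⟩

theorem exists_pow_of_fixed {α : Fˣ} (hord : orderOf α = (q + 1) * (q - 1))
    (hgen : ∀ k : Fˣ, ∃ i : ℕ, α ^ i = k) {f : F} (hf : f ^ q = f) (h0 : f ≠ 0) :
    ∃ i : ℕ, f = ((α : F) * (α : F) ^ q) ^ i := by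
  have hq := two_le_q hF
  obtain ⟨n, hn⟩ := hgen (Units.mk0 f h0)
  have hfn : (α : F) ^ n = f := by rw [← Units.val_pow_eq_pow_val, hn, Units.val_mk0]
  have e : α ^ (n * (q - 1)) = 1 := Units.ext (by
    rw [Units.val_pow_eq_pow_val, Units.val_one, pow_mul, hfn]
    refine mul_right_cancel₀ h0 ?_
    rw [one_mul, ← pow_succ, Nat.sub_add_cancel (by omega), hf])
  have hd := orderOf_dvd_of_pow_eq_one e
  rw [hord] at hd
  obtain ⟨i, rfl⟩ := (Nat.mul_dvd_mul_iff_right (show 0 < q - 1 by omega)).1 hd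
  exact ⟨i, by rw [← pow_succ', ← pow_mul, hfn]⟩

/-- The order divides three times the order of the character. -/
theorem pow_three_of_lam {α : Fˣ} {M : ℕ} (h : lam q (α : F) ^ M = 1) : α ^ (3 * M) = 1 := by
  refine Units.ext ?_
  have hq : (α : F) ^ q ≠ 0 := pow_ne_zero q α.ne_zero
  rw [lam, div_pow, div_eq_one_iff_eq (pow_ne_zero M hq), ← pow_two, ← pow_mul, ← pow_mul] at h
  have h2 : (α : F) ^ (2 * M * q) = (α : F) ^ M := by
    rw [pow_mul, h, ← pow_mul, show q * M * q = M * q * q by ring, pow_mul, pow_mul, pow_q_q hF]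
  have h3 : (α : F) ^ (2 * (2 * M)) = (α : F) ^ M := by
    rw [← h2, mul_comm 2 (2 * M), pow_mul, h, ← pow_mul]
    congr 1
    ring
  rw [Units.val_pow_eq_pow_val, Units.val_one]
  refine mul_right_cancel₀ (pow_ne_zero M α.ne_zero) ?_
  rw [one_mul, ← pow_add, ← h3]
  congr 1
  ring

/-- Surjectivity of the character onto the cubes. -/
theorem exists_lam_eq {x : F} (hx : x ≠ 0)
    (h : ∀ r, q + 1 = 3 * r → x ^ ((q - 1) * r) = 1) : ∃ k : Fˣ, lam q (k : F) = x := by
  have hq := two_le_q hF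
  obtain ⟨α, hord, hgen⟩ := exists_gen_unit hF
  by_cases h3 : 3 ∣ q + 1
  · obtain ⟨r, hr⟩ := h3
    obtain ⟨n, hn⟩ := hgen (Units.mk0 x hx)
    have hxn : (α : F) ^ n = x := by rw [← Units.val_pow_eq_pow_val, hn, Units.val_mk0]
    have e : α ^ (n * ((q - 1) * r)) = 1 := Units.ext (by
      rw [Units.val_pow_eq_pow_val, Units.val_one, pow_mul, hxn, h r hr])
    have hd := orderOf_dvd_of_pow_eq_one e
    rw [hord, hr, show 3 * r * (q - 1) = 3 * ((q - 1) * r) by ring] at hd
    obtain ⟨i, rfl⟩ := (Nat.mul_dvd_mul_iff_right (Nat.mul_pos (show 0 < q - 1 by omega) (show 0 < r by omega))).1 hd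
    refine ⟨α ^ ((q + 2) * i), ?_⟩
    rw [Units.val_pow_eq_pow_val, pow_mul, lam_pow, ← hxn, pow_mul]
    congr 1
    have hq0 : (α : F) ^ q ≠ 0 := pow_ne_zero q α.ne_zero
    have := α.ne_zero
    simp only [lam, pow_succ, pow_zero, one_mul, mul_pow, pow_q_q hF]
    field_simp
  · let L : Fˣ →* Fˣ := MonoidHom.mk' (fun k => Units.mk0 (lam q (k : F))
      (div_ne_zero (mul_ne_zero k.ne_zero k.ne_zero) (pow_ne_zero q k.ne_zero)))
      fun a b => Units.ext (lam_mul (a : F) (b : F))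
    have hinj : Function.Injective L := (injective_iff_map_eq_one L).2 fun k hk => by
      have h1 : lam q (k : F) ^ 1 = 1 := by rw [pow_one]; exact congrArg Units.val hk
      have hk3 := pow_three_of_lam hF h1
      have hk2 : k ^ 2 = k ^ q := Units.ext (by
        have this : lam q (k : F) = 1 := congrArg Units.val hk
        rw [lam, div_eq_one_iff_eq (pow_ne_zero q k.ne_zero)] at this
        rw [Units.val_pow_eq_pow_val, Units.val_pow_eq_pow_val, pow_two, this])
      rw [mul_one] at hk3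
      conv_rhs at hk2 => rw [← Nat.div_add_mod q 3, pow_add, pow_mul, hk3, one_pow, one_mul]
      rcases (show q % 3 = 0 ∨ q % 3 = 1 by omega) with e | e <;> rw [e] at hk2
      · rw [pow_succ, hk2, pow_zero, one_mul] at hk3; exact hk3
      · rw [pow_one, pow_two] at hk2; exact mul_eq_left.1 hk2
    obtain ⟨k, hk⟩ := Finite.surjective_of_injective hinj (Units.mk0 x hx)
    exact ⟨k, congrArg Units.val hk⟩

theorem lam_norm_one {α : Fˣ} (hord : orderOf α = (q + 1) * (q - 1)) :
    lam q ((α : F) ^ (q - 1)) = (α : F) ^ ((q - 1) * 3) := by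
  have hq := two_le_q hF
  have h1 : ((α : F) ^ (q - 1)) * ((α : F) ^ (q - 1)) ^ q = 1 := by
    rw [← pow_succ', ← pow_mul, ← Units.val_pow_eq_pow_val, mul_comm, ← hord, pow_orderOf_eq_one,
      Units.val_one]
  rw [lam, div_eq_iff (pow_ne_zero q (pow_ne_zero _ α.ne_zero)), pow_mul]
  linear_combination -(((α : F) ^ (q - 1)) * ((α : F) ^ (q - 1))) * h1

section char

variable {p : ℕ} [Fact p.Prime] [Algebra (ZMod p) F] {e : ℕ} (hq : q = p ^ e)

include hq

theorem hn_card : letI := Fintype.ofFinite F; Fintype.card F = p ^ (2 * e) := by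
  letI := Fintype.ofFinite F
  rw [← Nat.card_eq_fintype_card, hF, hq, ← pow_mul, mul_comm]

omit [Algebra (ZMod p) F] in
theorem le_of_dvd_two_mul {k : ℕ} (hkn : k ∣ 2 * e) (hlt : k < 2 * e) : k ≤ e := by
  obtain ⟨c, hc⟩ := hkn
  rcases c with - | - | c
  · omega
  · omega
  · rw [Nat.mul_add, Nat.mul_add, mul_one] at hc; omega

theorem adjoin_lam {α : Fˣ} (hord : orderOf α = (q + 1) * (q - 1)) (h3 : 3 ≤ q) :
    Algebra.adjoin (ZMod p) {lam q (α : F)} = ⊤ := by
  letI := Fintype.ofFinite F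
  refine adjoin_eq_top (hn_card hF hq) fun k hk hkn hlt h => ?_
  have hp : 2 ≤ p := (Fact.out : p.Prime).two_le
  have hP : 2 ≤ p ^ k := hp.trans (Nat.le_self_pow hk.ne' p)
  have hle : p ^ k ≤ q := hq ▸ Nat.pow_le_pow_right (by omega) (le_of_dvd_two_mul hF hq hkn hlt)
  have hl : lam q (α : F) ≠ 0 :=
    div_ne_zero (mul_ne_zero α.ne_zero α.ne_zero) (pow_ne_zero q α.ne_zero)
  have h1 : lam q (α : F) ^ (p ^ k - 1) = 1 := mul_right_cancel₀ hl (by
    rw [one_mul, ← pow_succ, Nat.sub_add_cancel (by omega), h])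
  have hd := orderOf_dvd_of_pow_eq_one (pow_three_of_lam hF h1)
  rw [hord] at hd
  have h2 := Nat.le_of_dvd (by omega) hd
  have h4 : 4 * (q - 1) ≤ (q + 1) * (q - 1) := Nat.mul_le_mul_right _ (by omega)
  omega

theorem adjoin_norm_one {α : Fˣ} (hord : orderOf α = (q + 1) * (q - 1)) (h2 : q ≠ 2) (h5 : q ≠ 5)
    (h8 : q ≠ 8) : Algebra.adjoin (ZMod p) {lam q ((α : F) ^ (q - 1))} = ⊤ := by
  letI := Fintype.ofFinite F
  have hq2 := two_le_q hF
  refine adjoin_eq_top (hn_card hF hq) fun k hk hkn hlt h => ?_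
  have hp : 2 ≤ p := (Fact.out : p.Prime).two_le
  have hP : 2 ≤ p ^ k := hp.trans (Nat.le_self_pow hk.ne' p)
  rw [lam_norm_one hF hord] at h
  have h1 : α ^ ((q - 1) * 3 * (p ^ k - 1)) = 1 := Units.ext (mul_right_cancel₀
    (pow_ne_zero ((q - 1) * 3) α.ne_zero) (by
      rw [Units.val_pow_eq_pow_val, Units.val_one, one_mul, pow_mul, ← pow_succ,
        Nat.sub_add_cancel (by omega), h]))
  have hd := orderOf_dvd_of_pow_eq_one h1
  rw [hord, mul_comm (q + 1), mul_assoc] at hd
  have hd' : q + 1 ∣ 3 * (p ^ k - 1) := (Nat.mul_dvd_mul_iff_left (show 0 < q - 1 by omega)).1 hd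
  by_cases hke : k ∣ e
  · have h6 : p ^ k - 1 ∣ q - 1 := by
      obtain ⟨c, hc⟩ := hke
      rw [hq, hc, pow_mul]
      simpa using Nat.sub_dvd_pow_sub_pow (p ^ k) 1 c
    have h7 : q + 1 ∣ 6 := (Nat.dvd_add_right (hd'.trans (Nat.mul_dvd_mul_left 3 h6))).1
      (show q + 1 ∣ 3 * (q - 1) + 6 by exact ⟨3, by omega⟩)
    have := Nat.le_of_dvd (by norm_num) h7
    have : q ≤ 5 := by omega
    interval_cases q <;> first | omega | norm_num at h7
  · obtain ⟨c, hc⟩ := hkn
    have hkc : k ≤ e := le_of_dvd_two_mul hF hq ⟨c, hc⟩ hlt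
    obtain ⟨d, hd2⟩ : ∃ d, c = 2 * d + 1 := by
      rcases Nat.even_or_odd c with ⟨d, rfl⟩ | h
      · exact absurd ⟨d, by linarith⟩ hke
      · exact h
    obtain ⟨j, rfl⟩ : 2 ∣ k := by
      have : 2 ∣ k * c := ⟨e, hc.symm⟩
      rcases (Nat.prime_two.dvd_mul).1 this with h | h
      · exact h
      · omega
    have hd1 : 1 ≤ d := by
      rcases d with - | d
      · subst hd2; omega
      · omega
    have he : 3 * j ≤ e := by nlinarith
    set P := p ^ j with hP'
    have hPk : p ^ (2 * j) = P * P := by rw [two_mul, pow_add]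
    have hqP : P * P * P ≤ q := by
      rw [hq, hP', ← pow_add, ← pow_add]
      exact Nat.pow_le_pow_right (by omega) (by omega)
    have hP2 : 2 ≤ P := hp.trans (Nat.le_self_pow (by omega) p)
    rw [hPk] at hd'
    obtain ⟨Q, hQ⟩ : ∃ Q, P * P = Q + 1 := ⟨P * P - 1, by have := Nat.mul_le_mul hP2 hP2; omega⟩
    rw [hQ, Nat.add_sub_cancel] at hd'
    have hle := Nat.le_of_dvd (by have := Nat.mul_le_mul hP2 hP2; omega) hd'
    have hP3 : P = 2 := by
      by_contra hne
      have h9 : P * P * 3 ≤ P * P * P := Nat.mul_le_mul_left _ (by omega)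
      omega
    rw [hP3] at hQ hqP
    obtain rfl : Q = 3 := by omega
    have hq8 : q = 8 := by omega
    exact h8 hq8

end char

omit [Finite F] hF in
theorem norm_facts {ν : F} (h : ν * ν ^ q = 1) : ν ≠ 0 := fun e => by simp [e] at h

/-- One plus a cube of norm one is in the image of the character. -/
theorem exists_lam_eq_one_add {α : Fˣ} (hord : orderOf α = (q + 1) * (q - 1))
    (h0 : 1 + lam q ((α : F) ^ (q - 1)) ≠ 0) :
    ∃ k : Fˣ, lam q (k : F) = 1 + lam q ((α : F) ^ (q - 1)) := by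
  have hq := two_le_q hF
  refine exists_lam_eq hF h0 fun r hr => ?_
  set s := lam q ((α : F) ^ (q - 1)) with hs
  have hs0 : s ≠ 0 := div_ne_zero (mul_ne_zero (pow_ne_zero _ α.ne_zero) (pow_ne_zero _ α.ne_zero))
    (pow_ne_zero q (pow_ne_zero _ α.ne_zero))
  have hα : (α : F) ^ ((q - 1) * (q + 1)) = 1 := by
    rw [← Units.val_pow_eq_pow_val, mul_comm, ← hord, pow_orderOf_eq_one, Units.val_one]
  have hsr : s ^ r = 1 := by
    rw [hs, lam_norm_one hF hord, ← pow_mul, mul_assoc, ← hr, hα]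
  have hsq : s ^ q * s = 1 := by
    rw [← pow_succ, hr, mul_comm, pow_mul, hsr, one_pow]
  have h1 : (1 + s) ^ (q - 1) = s⁻¹ := by
    refine mul_right_cancel₀ h0 ?_
    rw [← pow_succ, Nat.sub_add_cancel (by omega), add_pow_q hF, one_pow]
    field_simp
    linear_combination hsq
  rw [pow_mul, h1, inv_pow, hsr, inv_one]

theorem vld_inv {a b : F} (h : Vld q a b) : Vld q (-a) (b ^ q) := by
  unfold Vld at h ⊢
  rw [qneg hF, pow_q_q hF]
  linear_combination h

theorem uel_inv {a b : F} (h : Vld q a b) : (uel hF a b h)⁻¹ = uel hF (-a) (b ^ q) (vld_inv hF h) := by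
  refine inv_eq_of_mul_eq_one_right ?_
  rw [uel_mul hF, ← uel_zero hF]
  refine uel_congr hF _ _ (add_neg_cancel a) ?_
  unfold Vld at h
  rw [qneg hF]
  linear_combination h

/-- The unipotent subgroup of the model. -/
def UH : Subgroup (HU F q) where
  carrier := Set.range (uP hF)
  one_mem' := ⟨⟨(0, 0), vld_zero hF⟩, uel_zero hF⟩
  mul_mem' := by
    rintro _ _ ⟨z, rfl⟩ ⟨z', rfl⟩
    exact ⟨⟨(_, _), vld_mul hF z.2 z'.2⟩, (uel_mul hF z.2 z'.2).symm⟩
  inv_mem' := by
    rintro _ ⟨z, rfl⟩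
    exact ⟨⟨(_, _), vld_inv hF z.2⟩, (uel_inv hF z.2).symm⟩

theorem tel_pow_conj (k : Fˣ) (i : ℕ) {a b : F} (h : Vld q a b) :
    tel hF k ^ i * uel hF a b h * (tel hF k ^ i)⁻¹ = uel hF (lam q (k : F) ^ i * a)
      (((k : F) * (k : F) ^ q) ^ i * b)
      (by
        have := vld_conj hF (pow_ne_zero i k.ne_zero) h
        rwa [lam_pow, pow_right_comm, ← mul_pow] at this) := by
  rw [← map_pow, tel_conj hF (k ^ i) h]
  refine uel_congr hF _ _ ?_ ?_
  · rw [Units.val_pow_eq_pow_val, lam_pow]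
  · rw [Units.val_pow_eq_pow_val, pow_right_comm, ← mul_pow]

theorem uel_pow {a b : F} (h : Vld q a b) (n : ℕ) :
    ∃ b' h', uel hF a b h ^ n = uel hF ((n : F) * a) b' h' := by
  induction n with
  | zero =>
    exact ⟨0, by simpa using vld_zero hF, by
      rw [pow_zero, ← uel_zero hF]; exact uel_congr hF _ _ (by simp) rfl⟩
  | succ n ih =>
    obtain ⟨b', h', e⟩ := ih
    refine ⟨b' + b - (n : F) * a * a ^ q, ?_, ?_⟩
    · have := vld_mul hF h' h
      convert this using 1
      push_cast; ring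
    · rw [pow_succ, e, uel_mul hF]
      exact uel_congr hF _ _ (by push_cast; ring) rfl

theorem uel_centre_pow {c : F} (h : Vld q (0 : F) c) (n : ℕ) :
    ∃ h', uel hF 0 c h ^ n = uel hF 0 ((n : F) * c) h' := by
  induction n with
  | zero =>
    exact ⟨by simpa using vld_zero hF, by
      rw [pow_zero, ← uel_zero hF]; exact uel_congr hF _ _ rfl (by simp)⟩
  | succ n ih =>
    obtain ⟨h', e⟩ := ih
    have hv : Vld q (0 : F) ((n + 1 : ℕ) * c) := by
      have := vld_mul hF h' h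
      rw [zero_add, zero_mul, sub_zero] at this
      convert this using 1
      push_cast; ring
    exact ⟨hv, by rw [pow_succ, e, uel_mul hF]; exact uel_congr hF _ _ (by simp) (by push_cast; ring)⟩

section words

variable {p : ℕ} [Fact p.Prime] [Algebra (ZMod p) F]

omit [Finite F] hF in
theorem aeval_sum (x : F) (f : (ZMod p)[X]) :
    ((List.range (f.natDegree + 1)).map fun i => ((f.coeff i).val : F) * x ^ i).sum = aeval x f := by
  rw [aeval_eq_sum_range, ← List.sum_toFinset _ List.nodup_range, List.toFinset_range]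
  refine Finset.sum_congr rfl fun i _ => ?_
  rw [Algebra.smul_def, ← map_natCast (algebraMap (ZMod p) F), ZMod.natCast_zmod_val]

theorem wd_uel (k : Fˣ) {a b : F} (h : Vld q a b) (f : (ZMod p)[X]) :
    ∃ b' h', wd (uel hF a b h) (tel hF k) f = uel hF (aeval (lam q (k : F)) f * a) b' h' := by
  suffices H : ∀ L : List ℕ, ∃ b' h', (L.map fun i =>
      (tel hF k ^ i * uel hF a b h * (tel hF k ^ i)⁻¹) ^ (f.coeff i).val).prod =
      uel hF ((L.map fun i => ((f.coeff i).val : F) * lam q (k : F) ^ i).sum * a) b' h' by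
    obtain ⟨b', h', e⟩ := H (List.range (f.natDegree + 1))
    rw [← aeval_sum]
    exact ⟨b', h', e⟩
  intro L
  induction L with
  | nil => exact ⟨0, by simpa using vld_zero hF, by
      rw [List.map_nil, List.prod_nil, ← uel_zero hF]; exact uel_congr hF _ _ (by simp) rfl⟩
  | cons i L ih =>
    obtain ⟨b', h', e⟩ := ih
    obtain ⟨b1, h1, e1⟩ := uel_pow hF
      (vld_conj hF (pow_ne_zero i k.ne_zero) h) (f.coeff i).val
    have hv := vld_mul hF h1 h'
    rw [List.map_cons, List.map_cons, List.sum_cons, List.prod_cons, add_mul, mul_assoc, ← lam_pow]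
    refine ⟨_, hv, ?_⟩
    rw [e, ← map_pow, tel_conj hF (k ^ i) h,
      uel_congr hF _ (vld_conj hF (pow_ne_zero i k.ne_zero) h) (by rw [Units.val_pow_eq_pow_val])
        (by rw [Units.val_pow_eq_pow_val]), e1, uel_mul hF]

theorem wd_uel_centre (k : Fˣ) {c : F} (h : Vld q (0 : F) c) (f : (ZMod p)[X]) :
    ∃ h', wd (uel hF 0 c h) (tel hF k) f = uel hF 0 (aeval ((k : F) * (k : F) ^ q) f * c) h' := by
  suffices H : ∀ L : List ℕ, ∃ h', (L.map fun i =>
      (tel hF k ^ i * uel hF 0 c h * (tel hF k ^ i)⁻¹) ^ (f.coeff i).val).prod =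
      uel hF 0 ((L.map fun i => ((f.coeff i).val : F) * ((k : F) * (k : F) ^ q) ^ i).sum * c) h' by
    obtain ⟨h', e⟩ := H (List.range (f.natDegree + 1))
    rw [← aeval_sum]
    exact ⟨h', e⟩
  intro L
  induction L with
  | nil => exact ⟨by simpa using vld_zero hF, by
      rw [List.map_nil, List.prod_nil, ← uel_zero hF]; exact uel_congr hF _ _ rfl (by simp)⟩
  | cons i L ih =>
    obtain ⟨h', e⟩ := ih
    have hv0 : Vld q (0 : F) (((k : F) * (k : F) ^ q) ^ i * c) := by
      have := vld_conj hF (pow_ne_zero i k.ne_zero) h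
      rwa [mul_zero, pow_right_comm, ← mul_pow] at this
    obtain ⟨h1, e1⟩ := uel_centre_pow hF hv0 (f.coeff i).val
    have hv := vld_mul hF h1 h'
    rw [zero_add, zero_mul, sub_zero] at hv
    refine ⟨?_, ?_⟩
    · convert hv using 1
      rw [List.map_cons, List.sum_cons]; ring
    · rw [List.map_cons, List.prod_cons, e, tel_pow_conj hF k i h,
        uel_congr hF _ hv0 (mul_zero _) rfl, e1, uel_mul hF]
      exact uel_congr hF _ _ (add_zero 0) (by rw [List.map_cons, List.sum_cons]; ring)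

end words

end CfsgLib.SU3Pres
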