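import Cfsg.Agent.SU3Pres.Params
import Cfsg.Agent.SU3Pres.Borel
import Cfsg.Agent.BPres.Gens

/-!
The relators and their values in the model.
-/

set_option autoImplicit false
set_option linter.unusedSectionVars false
set_option linter.style.haveILetI false

namespace CfsgLib.SU3Pres

open Polynomial CfsgLib.Forms CfsgLib.Unitary CfsgLib.SL2Pres CfsgLib.BPres

/-- The first generator as a word. -/
def oU : FreeGroup (Fin 3) := FreeGroup.of 0

/-- The second generator as a word. -/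
def oT : FreeGroup (Fin 3) := FreeGroup.of 1

/-- The third generator as a word. -/
def oW : FreeGroup (Fin 3) := FreeGroup.of 2

variable {F : Type*} [Field F] [Finite F] {q : ℕ} (hF : Nat.card F = q ^ 2)

/-- The parameters of the presentation. -/
structure Data (hF : Nat.card F = q ^ 2) where
  /-- a generator of the multiplicative group -/
  α : Fˣ
  hord : orderOf α = (q + 1) * (q - 1)
  hgen : ∀ k : Fˣ, ∃ i : ℕ, α ^ i = k
  /-- an element of trace minus one -/
  r : F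
  hr : Vld q (1 : F) r
  h3 : 3 ≤ q

include hF in
theorem exists_data (h3 : 3 ≤ q) : Nonempty (Data hF) := by
  obtain ⟨α, hord, hgen⟩ := exists_gen_unit hF
  obtain ⟨r, hr⟩ := exists_trace_eq hF (μ := (-1 : F)) (by rw [qneg hF, one_pow])
  exact ⟨⟨α, hord, hgen, r, by unfold Vld; rw [one_pow, mul_one]; linear_combination hr, h3⟩⟩

namespace Data

variable {hF} (D : Data hF)

/-- The unipotent generator of the model. -/
def U0 : HU F q := uel hF 1 D.r D.hr

/-- The torus generator of the model. -/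
def T0 : HU F q := tel hF D.α

/-- The norm of the field generator. -/
def g : F := (D.α : F) * (D.α : F) ^ q

/-- The character at the field generator. -/
def ll : F := lam q (D.α : F)

/-- The parameter of the central element. -/
def c0 : F := D.ll - D.ll ^ q

/-- The generators of the model. -/
def f0 : Fin 3 → HU F q := ![D.U0, D.T0, wel hF]

theorem lift_oU : FreeGroup.lift D.f0 oU = D.U0 := by rw [oU, FreeGroup.lift_apply_of]; rfl

theorem lift_oT : FreeGroup.lift D.f0 oT = D.T0 := by rw [oT, FreeGroup.lift_apply_of]; rfl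

theorem lift_oW : FreeGroup.lift D.f0 oW = wel hF := by rw [oW, FreeGroup.lift_apply_of]; rfl

theorem g_ne : D.g ≠ 0 := mul_ne_zero D.α.ne_zero (pow_ne_zero q D.α.ne_zero)

theorem g_fix : D.g ^ q = D.g := by rw [g, mul_pow, pow_q_q hF, mul_comm]

theorem ll_pow (i : ℕ) : D.ll ^ i = lam q ((D.α : F) ^ i) := (lam_pow _ i).symm

theorem g_pow_sub : D.g ^ (q - 1) = 1 := by
  rw [g, ← pow_succ', ← pow_mul, ← Units.val_pow_eq_pow_val, ← D.hord, pow_orderOf_eq_one, Units.val_one]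

theorem c0_ne : D.c0 ≠ 0 := by
  intro h
  have hq := D.h3
  have hl : D.ll ≠ 0 :=
    div_ne_zero (mul_ne_zero D.α.ne_zero D.α.ne_zero) (pow_ne_zero q D.α.ne_zero)
  have h1 : lam q (D.α : F) ^ (q - 1) = 1 := mul_right_cancel₀ hl (by
    rw [one_mul]
    show D.ll ^ (q - 1) * D.ll = D.ll
    rw [← pow_succ, Nat.sub_add_cancel (by omega)]
    exact (sub_eq_zero.1 h).symm)
  have hd := orderOf_dvd_of_pow_eq_one (pow_three_of_lam hF h1)
  rw [D.hord] at hd
  have := Nat.le_of_dvd (by omega) ((Nat.mul_dvd_mul_iff_right (show 0 < q - 1 by omega)).1 hd)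
  omega

theorem vld_c0 : Vld q (0 : F) D.c0 := by
  unfold Vld
  rw [c0, qsub hF, pow_q_q hF, qzero hF]
  ring

theorem cj_U0 (i : ℕ) : ∃ h, cj D.U0 D.T0 i = uel hF (D.ll ^ i) (D.g ^ i * D.r) h := by
  have hv := vld_conj hF (pow_ne_zero i D.α.ne_zero) D.hr
  rw [mul_one, lam_pow, pow_right_comm, ← mul_pow] at hv
  exact ⟨hv, by rw [cj_natCast, T0, U0, tel_pow_conj hF]; exact uel_congr hF _ _ (mul_one _) rfl⟩

theorem comm_uel {a b c d : F} (h : Vld q a b) (h' : Vld q c d) :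
    ∃ hv, uel hF a b h * uel hF c d h' * (uel hF a b h)⁻¹ * (uel hF c d h')⁻¹ =
      uel hF 0 (c * a ^ q - a * c ^ q) hv := by
  have hv : Vld q (0 : F) (c * a ^ q - a * c ^ q) := by
    unfold Vld
    rw [qsub hF, mul_pow, mul_pow, pow_q_q hF, pow_q_q hF, qzero hF]
    ring
  refine ⟨hv, ?_⟩
  rw [mul_inv_eq_iff_eq_mul, mul_inv_eq_iff_eq_mul, mul_assoc (uel hF 0 _ hv), uel_mul hF, uel_mul hF,
    uel_mul hF]
  exact uel_congr hF _ _ (by ring) (by ring)

theorem commute_centre {a b c : F} (h : Vld q a b) (h' : Vld q (0 : F) c) :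
    Commute (uel hF a b h) (uel hF 0 c h') := by
  rw [commute_iff_eq, uel_mul hF, uel_mul hF]
  exact uel_congr hF _ _ (by ring) (by rw [qzero hF]; ring)

theorem quot_uel {a b a' b' : F} (h : Vld q a b) (h' : Vld q a' b') (e : a = a') :
    ∃ c hv, uel hF a b h * (uel hF a' b' h')⁻¹ = uel hF 0 c hv := by
  subst e
  have hv := vld_mul hF h (vld_inv hF h')
  rw [add_neg_cancel] at hv
  exact ⟨_, hv, by rw [uel_inv hF, uel_mul hF]; exact uel_congr hF _ _ (add_neg_cancel a) rfl⟩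

theorem zc_eq : zc D.U0 D.T0 = uel hF 0 D.c0 D.vld_c0 := by
  obtain ⟨h1, e1⟩ := D.cj_U0 1
  rw [Nat.cast_one] at e1
  obtain ⟨hv, e⟩ := comm_uel D.hr h1
  rw [zc, e1, U0, e]
  exact uel_congr hF _ _ rfl (by rw [c0, pow_one, one_pow, mul_one, one_mul])

theorem cj_zc (i : ℕ) : ∃ h, cj (zc D.U0 D.T0) D.T0 i = uel hF 0 (D.g ^ i * D.c0) h := by
  have hv := vld_conj hF (pow_ne_zero i D.α.ne_zero) D.vld_c0
  rw [mul_zero, pow_right_comm, ← mul_pow] at hv
  exact ⟨hv, by rw [zc_eq, cj_natCast, T0, tel_pow_conj hF]; exact uel_congr hF _ _ (mul_zero _) rfl⟩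

theorem exists_zeta {b : F} (h : Vld q (0 : F) b) :
    ∃ i e : ℕ, uel hF 0 b h = cj (zc D.U0 D.T0) D.T0 i ^ e := by
  by_cases hb : b = 0
  · subst hb
    exact ⟨0, 0, by rw [pow_zero, ← uel_zero hF]⟩
  have hfix : (b / D.c0) ^ q = b / D.c0 := by
    have h1 : b + b ^ q = 0 := by unfold Vld at h; linear_combination h
    have h2 : D.c0 + D.c0 ^ q = 0 := by have := D.vld_c0; unfold Vld at this; linear_combination this
    rw [div_pow, show b ^ q = -b by linear_combination h1, show D.c0 ^ q = -D.c0 by linear_combination h2,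
      neg_div_neg_eq]
  obtain ⟨i, hi⟩ := exists_pow_of_fixed hF D.hord D.hgen hfix (div_ne_zero hb D.c0_ne)
  obtain ⟨hv, e⟩ := D.cj_zc i
  refine ⟨i, 1, ?_⟩
  rw [pow_one, e]
  refine uel_congr hF _ _ rfl ?_
  rw [g, ← hi, div_mul_cancel₀ b D.c0_ne]

/-- A relator forcing membership in the centre. -/
theorem exists_rel (X : FreeGroup (Fin 3)) {b : F} {h : Vld q (0 : F) b}
    (hX : FreeGroup.lift D.f0 X = uel hF 0 b h) :
    ∃ r : FreeGroup (Fin 3), FreeGroup.lift D.f0 r = 1 ∧ ∀ (G : Type) [Group G] (f : Fin 3 → G),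
      FreeGroup.lift f r = 1 → FreeGroup.lift f X ∈ Zg (f 0) (f 1) := by
  obtain ⟨i, e, hz⟩ := D.exists_zeta h
  refine ⟨X * (cj (zc oU oT) oT i ^ e)⁻¹, ?_, fun G _ f hf => ?_⟩
  · rw [map_mul, map_inv, map_pow, map_cj, map_zc, lift_oU, lift_oT, hX, hz, mul_inv_cancel]
  · rw [map_mul, map_inv, map_pow, map_cj, map_zc, oU, oT, FreeGroup.lift_apply_of,
      FreeGroup.lift_apply_of, mul_inv_eq_one] at hf
    rw [hf]
    have hm : cj (zc (f 0) (f 1)) (f 1) i ∈ Zg (f 0) (f 1) := Subgroup.subset_closure ⟨(i : ℤ), rfl⟩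
    exact pow_mem hm e

section sur

variable {p : ℕ} [Fact p.Prime] [Algebra (ZMod p) F] {e : ℕ} (hq : q = p ^ e)

include hq

theorem uP_mem_Ag (z : UP F q) : uP hF z ∈ Ag D.U0 D.T0 := by
  obtain ⟨⟨a, b⟩, h⟩ := z
  obtain ⟨P, hP⟩ : ∃ P : (ZMod p)[X], aeval D.ll P = a := by
    have : a ∈ Algebra.adjoin (ZMod p) {D.ll} :=
      (adjoin_lam hF hq D.hord D.h3).symm ▸ Algebra.mem_top
    rw [Algebra.adjoin_singleton_eq_range_aeval] at this
    exact this
  obtain ⟨b', h', ew⟩ := wd_uel hF (p := p) D.α D.hr P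
  have hw : wd D.U0 D.T0 P ∈ Ag D.U0 D.T0 := wd_mem _ (fun k => cj_u_mem _ _ _) P
  have hd : Vld q (0 : F) (b - b') := by
    unfold Vld at h h' ⊢
    rw [show lam q (D.α : F) = D.ll from rfl, hP, mul_one] at h'
    rw [qsub hF, qzero hF]
    linear_combination h - h'
  obtain ⟨i, e', hz⟩ := D.exists_zeta hd
  have hm : cj (zc D.U0 D.T0) D.T0 i ^ e' ∈ Ag D.U0 D.T0 :=
    pow_mem (Zg_le D.U0 D.T0 (Subgroup.subset_closure ⟨(i : ℤ), rfl⟩)) e'
  have := mul_mem hw hm
  rw [← hz, show wd D.U0 D.T0 P = _ from ew, uel_mul hF] at this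
  convert this using 1
  refine uel_congr hF _ _ ?_ ?_
  · rw [show lam q (D.α : F) = D.ll from rfl, hP]; ring
  · rw [qzero hF]; ring

theorem borel_mem (z : UP F q) (k : Fˣ) :
    uP hF z * tel hF k ∈ Subgroup.closure ({D.U0, D.T0} : Set (HU F q)) := by
  have hu : D.U0 ∈ Subgroup.closure ({D.U0, D.T0} : Set (HU F q)) :=
    Subgroup.subset_closure (Set.mem_insert _ _)
  have ht : D.T0 ∈ Subgroup.closure ({D.U0, D.T0} : Set (HU F q)) :=
    Subgroup.subset_closure (Set.mem_insert_of_mem _ (Set.mem_singleton _))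
  have hle : Ag D.U0 D.T0 ≤ Subgroup.closure ({D.U0, D.T0} : Set (HU F q)) := by
    rw [Ag, Subgroup.closure_le]
    rintro _ ⟨i, rfl⟩
    exact mul_mem (mul_mem (zpow_mem ht i) hu) (inv_mem (zpow_mem ht i))
  refine mul_mem (hle (D.uP_mem_Ag hq z)) ?_
  obtain ⟨i, rfl⟩ := D.hgen k
  rw [map_pow]
  exact pow_mem ht i

end sur

theorem exists_borel_word {x : HU F q} (hx : x ∈ Subgroup.closure ({D.U0, D.T0} : Set (HU F q))) :
    ∃ X : FreeGroup (Fin 3), FreeGroup.lift D.f0 X = x ∧ ∀ (G : Type) [Group G] (f : Fin 3 → G),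
      FreeGroup.lift f X ∈ Subgroup.closure ({f 0, f 1} : Set G) := by
  induction hx using Subgroup.closure_induction with
  | mem x hx =>
    rcases hx with rfl | rfl
    · exact ⟨oU, D.lift_oU, fun G _ f => by
        rw [oU, FreeGroup.lift_apply_of]; exact Subgroup.subset_closure (Set.mem_insert _ _)⟩
    · exact ⟨oT, D.lift_oT, fun G _ f => by
        rw [oT, FreeGroup.lift_apply_of]
        exact Subgroup.subset_closure (Set.mem_insert_of_mem _ (Set.mem_singleton _))⟩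
  | one => exact ⟨1, map_one _, fun G _ f => by rw [map_one]; exact one_mem _⟩
  | mul x y _ _ hx hy =>
    obtain ⟨X, rfl, hX⟩ := hx
    obtain ⟨Y, rfl, hY⟩ := hy
    exact ⟨X * Y, map_mul _ X Y, fun G _ f => by rw [map_mul]; exact mul_mem (hX G f) (hY G f)⟩
  | inv x _ hx =>
    obtain ⟨X, rfl, hX⟩ := hx
    exact ⟨X⁻¹, map_inv _ X, fun G _ f => by rw [map_inv]; exact inv_mem (hX G f)⟩

/-- Steinberg's relator at a parameter. -/
theorem exists_st {p : ℕ} [Fact p.Prime] [Algebra (ZMod p) F] {e : ℕ} (hq : q = p ^ e) {a b : F}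
    (h : Vld q a b) (hb : b ≠ 0) :
    ∃ r : FreeGroup (Fin 3), FreeGroup.lift D.f0 r = 1 ∧
      ∀ (G : Type) [Group G] (f : Fin 3 → G) (π : G →* HU F q), (∀ i, π (f i) = D.f0 i) →
      FreeGroup.lift f r = 1 → ∃ x x1 x2 : G, ∃ (z1 z2 : UP F q) (j : ℤ),
        x ∈ Subgroup.closure ({f 0, f 1} : Set G) ∧ x1 ∈ Subgroup.closure ({f 0, f 1} : Set G) ∧
        x2 ∈ Subgroup.closure ({f 0, f 1} : Set G) ∧ π x = uel hF a b h ∧ π x1 = uP hF z1 ∧
        π x2 = uP hF z2 ∧ f 2 * x * f 2 = x1 * f 1 ^ j * f 2 * x2 := by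
  have hmem : ∀ (a b : F) (h : Vld q a b),
      uel hF a b h ∈ Subgroup.closure ({D.U0, D.T0} : Set (HU F q)) := fun a b h => by
    have := D.borel_mem hq ⟨(a, b), h⟩ 1
    rwa [map_one, mul_one] at this
  obtain ⟨X, hX, hX'⟩ := D.exists_borel_word (hmem a b h)
  obtain ⟨X1, hX1, hX1'⟩ := D.exists_borel_word (hmem _ _ (vld_left hF h hb))
  obtain ⟨X2, hX2, hX2'⟩ := D.exists_borel_word (hmem _ _ (vld_right hF h hb))
  obtain ⟨j, hj⟩ := D.hgen (Units.mk0 (b ^ q)⁻¹ (inv_ne_zero (pow_ne_zero q hb)))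
  refine ⟨oW * X * oW * (X1 * oT ^ j * oW * X2)⁻¹, ?_, fun G _ f π hπ hf => ?_⟩
  · rw [map_mul, map_inv, map_mul, map_mul, map_mul, map_mul, map_mul, map_pow, lift_oW, lift_oT, hX, hX1,
      hX2, T0, ← map_pow, hj, wel_uel_wel hF h hb, mul_inv_cancel]
  · have hc : ∀ Y, π (FreeGroup.lift f Y) = FreeGroup.lift D.f0 Y := fun Y => by
      rw [lift_comp, show (fun i => π (f i)) = D.f0 from funext hπ]
    rw [map_mul, map_inv, map_mul, map_mul, map_mul, map_mul, map_mul, map_pow, oW, oT,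
      FreeGroup.lift_apply_of, FreeGroup.lift_apply_of, mul_inv_eq_one, ← zpow_natCast] at hf
    exact ⟨_, _, _, ⟨(_, _), vld_left hF h hb⟩, ⟨(_, _), vld_right hF h hb⟩, j, hX' G f, hX1' G f,
      hX2' G f, (hc X).trans hX, (hc X1).trans hX1, (hc X2).trans hX2, hf⟩

/-- The value of a map at the generators on Borel subgroups. -/
theorem map_Ag {G : Type} [Group G] (π : G →* HU F q) {u t : G} (hu : π u = D.U0) (ht : π t = D.T0) :
    (Ag u t).map π = Ag D.U0 D.T0 := by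
  rw [Ag, MonoidHom.map_closure, Ag, ← Set.range_comp]
  congr 2
  funext i
  rw [Function.comp_apply, map_cj, hu, ht]

theorem Ag_le_UH : Ag D.U0 D.T0 ≤ UH hF := by
  rw [Ag, Subgroup.closure_le]
  rintro _ ⟨i, rfl⟩
  obtain ⟨k, hk⟩ := cj_periodic (u := D.U0) (t := D.T0) (N := (q + 1) * (q - 1))
    (Nat.mul_pos (by omega) (by have := D.h3; omega))
    (by rw [T0, ← map_pow, ← D.hord, pow_orderOf_eq_one, map_one]) i
  obtain ⟨h, e⟩ := D.cj_U0 k
  exact ⟨⟨(_, _), h⟩, (hk.trans e).symm⟩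

end Data

end CfsgLib.SU3Pres
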